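import Groth.Agent.SerreVanLib.Main
import Groth.Agent.CurvLib.EulerTensor
import Groth.Agent.KFlatLib.FreeModel
import Groth.Agent.KFlatLib.QCohTensor
import Groth.Prelude.Def_Curv2
import Groth.Prelude.Def_FGA

/-!
# Twisting coherent modules by invertible modules
-/

set_option autoImplicit false
universe u

open CategoryTheory CategoryTheory.Limits AlgebraicGeometry TopologicalSpace Opposite
open DevissLib

noncomputable section

namespace HilbPolyLib

variable {X : Scheme.{u}}

/-- The symmetry of tensor products. -/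
def swapIso (A B : X.Modules) : CohB1.tensorMod A B ≅ CohB1.tensorMod B A :=
  KFlatLib.tensSwap B A

/-- Tensor products respect isomorphisms on the left. -/
def congrLeft {A B : X.Modules} (e : A ≅ B) (M : X.Modules) :
    CohB1.tensorMod A M ≅ CohB1.tensorMod B M :=
  ((DCoh.tensorBi (X := X)).flip.obj M).mapIso e

/-- Tensor products respect isomorphisms on the right. -/
def congrRight (M : X.Modules) {A B : X.Modules} (e : A ≅ B) :
    CohB1.tensorMod M A ≅ CohB1.tensorMod M B :=
  SerreVanLib.tensorCongr M e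

/-- `O ⊗ M ≅ M`. -/
def unitLeft (M : X.Modules) : CohB1.tensorMod (Coh.structureModule X) M ≅ M :=
  KFlatLib.tensUnitIso M

/-- `(A ⊗ B) ⊗ C ≅ A ⊗ (B ⊗ C)`. -/
def assocIso (A B C : X.Modules) :
    CohB1.tensorMod (CohB1.tensorMod A B) C ≅ CohB1.tensorMod A (CohB1.tensorMod B C) :=
  SerreVanLib.tensorAssoc A B C

/-- `A ⊗ (B ⊗ C) ≅ B ⊗ (A ⊗ C)`. -/
def leftComm (A B C : X.Modules) :
    CohB1.tensorMod A (CohB1.tensorMod B C) ≅ CohB1.tensorMod B (CohB1.tensorMod A C) :=
  (assocIso A B C).symm ≪≫ congrLeft (swapIso A B) C ≪≫ assocIso B A C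

theorem isInvertible_tensor {A B : X.Modules} (hA : PicF.IsInvertible A) (hB : PicF.IsInvertible B) :
    PicF.IsInvertible (CohB1.tensorMod A B) := fun x => by
  obtain ⟨U, a, hxU, ha⟩ := TwistLib.exists_genOn hA x
  obtain ⟨V, b, hxV, hb⟩ := TwistLib.exists_genOn hB x
  exact ⟨U ⊓ V, ⟨hxU, hxV⟩, TwistLib.nonempty_iso_of_genOn _
    (AmpleThLib.shT_genOn (ha.res inf_le_left) (hb.res inf_le_right))⟩

theorem isInvertible_of_iso {A B : X.Modules} (e : A ≅ B) (hA : PicF.IsInvertible A) :
    PicF.IsInvertible B := fun x => by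
  obtain ⟨U, hx, ⟨i⟩⟩ := hA x
  exact ⟨U, hx, ⟨(Scheme.Modules.restrictFunctor U.ι).mapIso e.symm ≪≫ i⟩⟩

theorem isCoh_tensor {L M : X.Modules} (hL : PicF.IsInvertible L) (hM : Coh.IsCoh M) :
    Coh.IsCoh (CohB1.tensorMod L M) :=
  QCohLib.isCoh_of_iso (swapIso M L) (SerreVanLib.isCoh_tensor hM hL)

theorem support_tensor {L : X.Modules} (hL : PicF.IsInvertible L) (M : X.Modules) :
    CohB1.support (CohB1.tensorMod L M) = CohB1.support M := by
  rw [DevissLib.support_iso (swapIso L M)]
  ext x
  obtain ⟨e⟩ := CurvLib.nonempty_stalk_tensor_locFree (CurvLib.locFree_of_isInvertible hL) M x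
  exact not_congr ((e.toEquiv.trans (Equiv.funUnique (Fin 1) _)).subsingleton_congr)

theorem shortExact_tensor {L : X.Modules} (hL : PicF.IsInvertible L) {S : ShortComplex X.Modules}
    (hS : S.ShortExact) : (S.map (CurvLib.tensorLeft' L)).ShortExact :=
  CurvLib.shortExact_tensor_locFree (CurvLib.locFree_of_isInvertible hL) hS

/-- `tensorPows F r L n` as a twist of `F`. -/
theorem nonempty_tensorPows (F : X.Modules) : ∀ (r : ℕ) (L : Fin r → X.Modules) (n : Fin r → ℕ),
    Nonempty (Curv2.tensorPows F r L n ≅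
      CohB1.tensorMod (Curv2.tensorPows (Coh.structureModule X) r L n) F)
  | 0, _, _ => ⟨(unitLeft F).symm⟩
  | r + 1, L, n => by
    obtain ⟨e⟩ := nonempty_tensorPows F r (fun i => L i.castSucc) (fun i => n i.castSucc)
    exact ⟨congrLeft e _ ≪≫ assocIso _ _ _ ≪≫ congrRight _ (swapIso _ _) ≪≫ (assocIso _ _ _).symm⟩

theorem isInvertible_tensorPows : ∀ (r : ℕ) (L : Fin r → X.Modules) (_ : ∀ i, PicF.IsInvertible (L i))
    (n : Fin r → ℕ), PicF.IsInvertible (Curv2.tensorPows (Coh.structureModule X) r L n)
  | 0, _, _, _ => CurvLib.isInvertible_structureModule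
  | r + 1, L, hL, n => isInvertible_tensor
      (isInvertible_tensorPows r _ (fun i => hL _) _) (AmpleThLib.tensorPow_isInvertible (hL _) _)

theorem nonempty_tensorPows_step : ∀ (r : ℕ) (L : Fin r → X.Modules) (n : Fin r → ℕ) (i : Fin r),
    Nonempty (Curv2.tensorPows (Coh.structureModule X) r L (Function.update n i (n i + 1)) ≅
      CohB1.tensorMod (L i) (Curv2.tensorPows (Coh.structureModule X) r L n))
  | r + 1, L, n, i => by
    refine Fin.lastCases ?_ (fun j => ?_) i
    · have h1 : (fun l : Fin r => Function.update n (Fin.last r) (n (Fin.last r) + 1) l.castSucc) =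
          fun l => n l.castSucc := funext fun l => Function.update_of_ne (Fin.castSucc_lt_last l).ne _ _
      simp only [Curv2.tensorPows, h1, Function.update_self, CohB1.tensorPow]
      exact ⟨(assocIso _ _ _).symm ≪≫ swapIso _ _⟩
    · have h1 : (fun l : Fin r => Function.update n j.castSucc (n j.castSucc + 1) l.castSucc) =
          Function.update (fun l => n l.castSucc) j (n j.castSucc + 1) :=
        funext fun l => by
          by_cases h : l = j
          · subst h; simp
          · rw [Function.update_of_ne h, Function.update_of_ne fun h' => h (Fin.castSucc_injective _ h')]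
      obtain ⟨e⟩ := nonempty_tensorPows_step r (fun l => L l.castSucc) (fun l => n l.castSucc) j
      simp only [Curv2.tensorPows, h1, Function.update_of_ne (Fin.castSucc_lt_last j).ne']
      exact ⟨congrLeft e _ ≪≫ assocIso _ _ _⟩

theorem isInvertible_tensorList : ∀ l : List X.Modules, (∀ M ∈ l, PicF.IsInvertible M) →
    PicF.IsInvertible (FGA.tensorList l)
  | [], _ => CurvLib.isInvertible_structureModule
  | M :: l, h => isInvertible_tensor (h M List.mem_cons_self)
      (isInvertible_tensorList l fun N hN => h N (List.mem_cons_of_mem M hN))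

theorem isInvertible_multiTwist {r : ℕ} (L : Fin r → X.Modules) (hL : ∀ i, PicF.IsInvertible (L i))
    (n : Fin r → ℕ) : PicF.IsInvertible (FGA.multiTwist L n) :=
  isInvertible_tensorList _ fun M hM => by
    obtain ⟨i, -, rfl⟩ := List.mem_map.mp hM
    exact AmpleThLib.tensorPow_isInvertible (hL i) _

theorem nonempty_tensorList_step {ι : Type*} [DecidableEq ι] (L : ι → X.Modules) (n : ι → ℕ) (i : ι) :
    ∀ l : List ι, l.Nodup → i ∈ l →
      Nonempty (FGA.tensorList (l.map fun j => CohB1.tensorPow (L j) (Function.update n i (n i + 1) j)) ≅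
        CohB1.tensorMod (L i) (FGA.tensorList (l.map fun j => CohB1.tensorPow (L j) (n j))))
  | a :: l, hl, hi => by
    rw [List.nodup_cons] at hl
    simp only [List.map_cons, FGA.tensorList]
    by_cases h : a = i
    · subst h
      have h1 : (l.map fun j => CohB1.tensorPow (L j) (Function.update n a (n a + 1) j)) =
          l.map fun j => CohB1.tensorPow (L j) (n j) :=
        List.map_congr_left fun j hj => by rw [Function.update_of_ne (show j ≠ a by rintro rfl; exact hl.1 hj)]
      rw [h1, Function.update_self]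
      exact ⟨congrLeft (swapIso _ _) _ ≪≫ assocIso _ _ _⟩
    · obtain ⟨e⟩ := nonempty_tensorList_step L n i l hl.2 ((List.mem_cons.mp hi).resolve_left (Ne.symm h))
      rw [Function.update_of_ne h]
      exact ⟨congrRight _ e ≪≫ leftComm _ _ _⟩

theorem nonempty_multiTwist_step {r : ℕ} (L : Fin r → X.Modules) (n : Fin r → ℕ) (i : Fin r) :
    Nonempty (FGA.multiTwist L (Function.update n i (n i + 1)) ≅
      CohB1.tensorMod (L i) (FGA.multiTwist L n)) :=
  nonempty_tensorList_step L n i _ (List.nodup_finRange r) (List.mem_finRange i)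

end HilbPolyLib

end
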