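import Groth.Agent.HilbPolyLib.Snapper
import Groth.Agent.FibDimLib.ClosureDim
import Groth.Prelude.Def_ShStab
import Mathlib.Analysis.Polynomial.Basic

/-!
# Hilbert polynomials
-/

set_option autoImplicit false
universe u

open CategoryTheory CategoryTheory.Limits AlgebraicGeometry TopologicalSpace Opposite
open DevissLib

noncomputable section

namespace HilbPolyLib

theorem eq_of_eval_nat {P Q : Polynomial ℚ} (h : ∀ m : ℕ, P.eval (m : ℚ) = Q.eval (m : ℚ)) : P = Q := by
  refine Polynomial.eq_of_infinite_eval_eq P Q (Set.Infinite.mono ?_ (Set.infinite_range_of_injective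
    (Nat.cast_injective (R := ℚ))))
  rintro _ ⟨m, rfl⟩
  exact h m

/-- A polynomial of degree `≤ d` which is eventually nonnegative has nonnegative degree `d` part. -/
theorem coeff_nonneg_of_eventually {d : ℕ} {R : Polynomial ℚ} (hR : R.natDegree ≤ d) {N : ℕ}
    (h : ∀ j : ℕ, N ≤ j → 0 ≤ R.eval (j : ℚ)) : 0 ≤ R.coeff d := by
  by_contra hc
  push Not at hc
  have hd : R.natDegree = d := le_antisymm hR (Polynomial.le_natDegree_of_ne_zero hc.ne)
  have hne : R ≠ 0 := fun h0 => hc.ne (by simp [h0])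
  have hlc : R.leadingCoeff < 0 := by rwa [Polynomial.leadingCoeff, hd]
  rcases Nat.eq_zero_or_pos d with hd0 | hd0
  · subst hd0
    have := h N le_rfl
    rw [Polynomial.eq_C_of_natDegree_eq_zero hd, Polynomial.eval_C] at this
    exact absurd this (not_le.mpr hc)
  · have hdeg : 0 < R.degree := Polynomial.natDegree_pos_iff_degree_pos.mp (hd ▸ hd0)
    have ht := (R.tendsto_atBot_iff_leadingCoeff_nonpos.mpr ⟨hdeg, hlc.le⟩).comp
      (tendsto_natCast_atTop_atTop (R := ℚ))
    obtain ⟨j, hj, hj'⟩ :=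
      ((Filter.tendsto_atBot.mp ht (-1)).and (Filter.eventually_ge_atTop N)).exists
    have := h j hj'
    simp only [Function.comp_apply] at hj
    linarith

variable {X : Scheme.{u}} {k : Type u} [Field k] [X.Over (Spec (CommRingCat.of k))]
  [IsProper (X ↘ Spec (CommRingCat.of k))]

variable (k) in
include k in
theorem exists_dim_lt : ∃ D : ℕ, topologicalKrullDim X < (D : ℕ) := by
  let q := X ↘ Spec (CommRingCat.of k)
  haveI : CompactSpace X := QuasiCompact.compactSpace_of_compactSpace q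
  choose U hU hxU using fun x : X => QCohLib.exists_affine_nhd x
  obtain ⟨S, hS⟩ := isCompact_univ.elim_finite_subcover (fun x => (U x : Set X))
    (fun x => (U x).2) fun x _ => Set.mem_iUnion.mpr ⟨x, hxU x⟩
  have hb : ∀ x : X, ∃ b : ℕ, ringKrullDim Γ(X, U x) ≤ (b : ℕ) := fun x => by
    letI := (q.appLE ⊤ (U x) le_top).hom.toAlgebra
    letI : Algebra k Γ(X, U x) := ((q.appLE ⊤ (U x) le_top).hom.comp
      (Scheme.ΓSpecIso (CommRingCat.of k)).inv.hom).toAlgebra
    haveI : Algebra.FiniteType k Γ(X, U x) :=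
      (q.finiteType_appLE (isAffineOpen_top _) (hU x) le_top).comp (RingHom.FiniteType.of_surjective _
        (ConcreteCategory.bijective_of_isIso (Scheme.ΓSpecIso (CommRingCat.of k)).inv).2)
    obtain ⟨n, f, hf⟩ := Algebra.FiniteType.iff_quotient_mvPolynomial''.mp ‹Algebra.FiniteType k Γ(X, U x)›
    refine ⟨n, (ringKrullDim_le_of_surjective f.toRingHom hf).trans_eq ?_⟩
    simp [MvPolynomial.ringKrullDim_of_isNoetherianRing, ringKrullDim_eq_zero_of_field]
  choose b hb using hb
  refine ⟨S.sup b + 1, lt_of_le_of_lt (b := ((S.sup b : ℕ) : WithBot ℕ∞)) ?_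
    (by exact_mod_cast Nat.lt_succ_self (S.sup b))⟩
  refine FibDimLib.topologicalKrullDim_le_of_points fun y => ?_
  obtain ⟨x, hxS, hy⟩ := Set.mem_iUnion₂.mp (hS (Set.mem_univ y))
  rw [FibDimLib.topologicalKrullDim_closure_eq_affine q (hU x) hy]
  exact (ringKrullDim_quotient_le _).trans ((hb x).trans (by exact_mod_cast Finset.le_sup hxS))

omit [IsProper (X ↘ Spec (CommRingCat.of k))] in
theorem euler_twist (L F : X.Modules) (m : ℕ) :
    Curv2.euler k X (ShStab.twist X L F m) =
      Curv2.euler k X (CohB1.tensorMod (CohB1.tensorPow L m) F) :=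
  CurvLib.euler_congr (swapIso F (CohB1.tensorPow L m))

/-- Hilbert polynomials exist, with degree bounded by the dimension of the support. -/
theorem exists_isHilbPoly {L : X.Modules} (hL : PicF.IsInvertible L) {F : X.Modules} (hF : Coh.IsCoh F)
    {d : ℕ} (hd : topologicalKrullDim (CohB1.support F) < (d : ℕ)) :
    ∃ P : Polynomial ℚ, P.degree < (d : WithBot ℕ) ∧ ShStab.IsHilbPoly k X L F P := by
  obtain ⟨P, hP, hP'⟩ := exists_polynomial (hilbFun_mem (k := k) (r := 1)
    (W := fun n => CohB1.tensorPow L (n 0)) (fun n => AmpleThLib.tensorPow_isInvertible hL _)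
    (L := fun _ => L) (fun _ => hL) (fun n i => by
      obtain rfl : i = 0 := Subsingleton.elim _ _
      simp only [Function.update_self, CohB1.tensorPow]
      exact ⟨swapIso _ _⟩) d F hF hd)
  exact ⟨P, hP, fun m => by rw [euler_twist, ← hP' m]; rfl⟩

theorem exists_isHilbPoly' {L : X.Modules} (hL : PicF.IsInvertible L) {F : X.Modules} (hF : Coh.IsCoh F) :
    ∃ P : Polynomial ℚ, ShStab.IsHilbPoly k X L F P := by
  obtain ⟨D, hD⟩ := exists_dim_lt k (X := X)
  obtain ⟨P, -, hP⟩ := exists_isHilbPoly (k := k) hL hF ((topologicalKrullDim_subspace_le _ _).trans_lt hD)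
  exact ⟨P, hP⟩

omit [IsProper (X ↘ Spec (CommRingCat.of k))] in
theorem isHilbPoly_unique {L F : X.Modules} {P Q : Polynomial ℚ} (hP : ShStab.IsHilbPoly k X L F P)
    (hQ : ShStab.IsHilbPoly k X L F Q) : P = Q :=
  eq_of_eval_nat fun m => (hP m).symm.trans (hQ m)

omit [IsProper (X ↘ Spec (CommRingCat.of k))] in
theorem isHilbPoly_congr {L F G : X.Modules} (e : F ≅ G) {P : Polynomial ℚ}
    (hP : ShStab.IsHilbPoly k X L F P) : ShStab.IsHilbPoly k X L G P := fun m => by
  rw [euler_twist, ← CurvLib.euler_congr (congrRight _ e), ← euler_twist]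
  exact hP m

theorem isHilbPoly_add {L : X.Modules} (hL : PicF.IsInvertible L) {S : ShortComplex X.Modules}
    (hS : S.ShortExact) (h₁ : Coh.IsCoh S.X₁) (h₂ : Coh.IsCoh S.X₂) (h₃ : Coh.IsCoh S.X₃)
    {P Q : Polynomial ℚ} (hP : ShStab.IsHilbPoly k X L S.X₁ P) (hQ : ShStab.IsHilbPoly k X L S.X₃ Q) :
    ShStab.IsHilbPoly k X L S.X₂ (P + Q) := fun m => by
  have hW := AmpleThLib.tensorPow_isInvertible hL m
  have := CurvLib.euler_add_of_isCoh (k := k) (shortExact_tensor hW hS) (isCoh_tensor hW h₁)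
    (isCoh_tensor hW h₂) (isCoh_tensor hW h₃)
  rw [Polynomial.eval_add, ← hP m, ← hQ m, euler_twist, euler_twist, euler_twist]
  exact_mod_cast this

omit [IsProper (X ↘ Spec (CommRingCat.of k))] in
theorem isHilbPoly_eq_zero_of_isZero {L F : X.Modules} (hL : PicF.IsInvertible L) (h : IsZero F)
    [IsProper (X ↘ Spec (CommRingCat.of k))] {P : Polynomial ℚ}
    (hP : ShStab.IsHilbPoly k X L F P) : P = 0 := eq_of_eval_nat fun m => by
  rw [Polynomial.eval_zero, ← hP m, euler_twist, euler_zero (k := k) (isZero_of_support_empty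
    ((support_tensor (AmpleThLib.tensorPow_isInvertible hL m) F).trans (support_of_isZero h)))]
  exact Int.cast_zero

end HilbPolyLib

end
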