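import Groth.Agent.HilbPolyLib.NumPoly
import Groth.Agent.HilbPolyLib.Twist
import Groth.Agent.DevissLib.Induction
import Groth.Agent.DevissLib.ClosedImm

/-!
# Snapper's theorem
-/

set_option autoImplicit false
universe u

open CategoryTheory CategoryTheory.Limits AlgebraicGeometry TopologicalSpace Opposite
open DevissLib

noncomputable section

namespace HilbPolyLib

/-- Closed sets missing a generic point have smaller dimension. -/
theorem dim_lt_of_notMem {α : Type u} [TopologicalSpace α] {η : α} {T' : Set α}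
    (hT' : IsClosed T') (hsub : T' ⊆ closure {η}) (hη : η ∉ T') {Y : Set α}
    (hY : closure {η} ⊆ Y) {d : ℕ} (hd : topologicalKrullDim Y < (d + 1 : ℕ)) :
    topologicalKrullDim T' < (d : ℕ) := by
  by_contra h
  obtain ⟨p, hp⟩ := Order.le_krullDim_iff.mp (not_lt.mp h)
  let f : T' → Y := fun x => ⟨x.1, hY (hsub x.2)⟩
  have hf : Topology.IsInducing f :=
    (Topology.IsInducing.subtypeVal (t := T')).codRestrict fun x => hY (hsub x.2)
  let p' : LTSeries (IrreducibleCloseds Y) :=
    LTSeries.map p _ (IrreducibleCloseds.map_strictMono_of_isInducing hf)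
  let top : IrreducibleCloseds Y := ⟨closure {⟨η, hY (subset_closure rfl)⟩},
    isIrreducible_singleton.closure, isClosed_closure⟩
  have hlt : p'.last < top := by
    have hle : ∀ y : Y, y ∈ (p'.last : Set Y) → (y : α) ∈ T' := by
      intro y hy
      have hy' : y ∈ closure (f '' (p.last : Set T')) := hy
      refine (hT'.preimage continuous_subtype_val).closure_subset_iff.mpr ?_ hy'
      rintro _ ⟨x, -, rfl⟩
      exact x.2
    refine lt_of_le_of_ne (fun y hy => ?_) fun he => hη (hle ⟨η, hY (subset_closure rfl)⟩ ?_)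
    · have := hsub (hle y hy)
      exact closure_subtype.mpr (by simpa using this)
    · rw [he]; exact subset_closure rfl
  have := (Order.LTSeries.length_le_krullDim (p'.snoc top hlt)).trans_lt hd
  simp only [RelSeries.snoc_length] at this
  rw [show p'.length = d from hp] at this
  exact lt_irrefl _ this

variable {X : Scheme.{u}} {k : Type u} [Field k] [X.Over (Spec (CommRingCat.of k))]
  [IsProper (X ↘ Spec (CommRingCat.of k))] {r : ℕ} (W : (Fin r → ℕ) → X.Modules)

include k in
theorem euler_zero {M : X.Modules} (h : IsZero M) : Curv2.euler k X M = 0 := by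
  have hM : Coh.IsCoh M := isCoh_of_isZero h
  let S : ShortComplex X.Modules := ShortComplex.mk (𝟙 M) (0 : M ⟶ M) comp_zero
  have hS : S.ShortExact :=
    { exact := ShortComplex.exact_of_isZero_X₂ _ h
      mono_f := inferInstanceAs (Mono (𝟙 M))
      epi_g := ⟨fun a b _ => h.eq_of_src a b⟩ }
  have := CurvLib.euler_add_of_isCoh (k := k) hS hM hM hM
  change Curv2.euler k X M = Curv2.euler k X M + Curv2.euler k X M at this
  omega

variable (k) in
/-- `n ↦ χ(W n ⊗ F)`. -/
def hilbFun (F : X.Modules) : (Fin r → ℕ) → ℚ :=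
  fun n => (Curv2.euler k X (CohB1.tensorMod (W n) F) : ℚ)

theorem hilbFun_congr {F G : X.Modules} (e : F ≅ G) : hilbFun k W F = hilbFun k W G := by
  funext n
  exact congrArg Int.cast (CurvLib.euler_congr (congrRight (W n) e))

variable {W} (hW : ∀ n, PicF.IsInvertible (W n))

include hW

theorem hilbFun_add {S : ShortComplex X.Modules} (hS : S.ShortExact) (h₁ : Coh.IsCoh S.X₁)
    (h₂ : Coh.IsCoh S.X₂) (h₃ : Coh.IsCoh S.X₃) :
    hilbFun k W S.X₂ = hilbFun k W S.X₁ + hilbFun k W S.X₃ := by
  funext n
  have := CurvLib.euler_add_of_isCoh (k := k) (shortExact_tensor (hW n) hS)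
    (isCoh_tensor (hW n) h₁) (isCoh_tensor (hW n) h₂) (isCoh_tensor (hW n) h₃)
  simp only [hilbFun, Pi.add_apply]
  exact_mod_cast this

theorem hilbFun_sub_eq {A B : X.Modules} (φ : A ⟶ B) (hA : Coh.IsCoh A) (hB : Coh.IsCoh B) :
    hilbFun k W A - hilbFun k W B = hilbFun k W (kernel φ) - hilbFun k W (cokernel φ) := by
  haveI := CurvLib.isNoetherian k (X := X)
  have hK := QCohLib.isCoh_kernel φ hA hB.1
  have hC := QCohLib.isCoh_cokernel φ hA.1 hB
  have hI := isCoh_image φ hA hB
  have h1 : hilbFun k W A = hilbFun k W (kernel φ) + hilbFun k W (Abelian.image φ) :=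
    hilbFun_add (k := k) (S := kerImSeq φ) hW (kerImSeq_shortExact φ) hK hA hI
  have h2 : hilbFun k W B = hilbFun k W (Abelian.image φ) + hilbFun k W (cokernel φ) :=
    hilbFun_add (k := k) (S := imCokSeq φ) hW (imCokSeq_shortExact φ) hI hB hC
  rw [h1, h2]
  abel

/-- Modules agreeing at a generic point. -/
theorem hilbFun_sub_mem {d : ℕ} (ih : ∀ N : X.Modules, Coh.IsCoh N →
      topologicalKrullDim (CohB1.support N) < (d : ℕ) → hilbFun k W N ∈ polyFun r d)
    {η : X} {Y : Set X} (hY : closure {η} ⊆ Y) (hd : topologicalKrullDim Y < (d + 1 : ℕ))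
    {A B : X.Modules} (hA : Coh.IsCoh A) (hB : Coh.IsCoh B) (hAT : CohB1.support A ⊆ closure {η})
    (hBT : CohB1.support B ⊆ closure {η}) (φ : A ⟶ B) (h : Function.Bijective ((St η).map φ).hom) :
    hilbFun k W A - hilbFun k W B ∈ polyFun r d := by
  haveI := CurvLib.isNoetherian k (X := X)
  have hK := QCohLib.isCoh_kernel φ hA hB.1
  have hC := QCohLib.isCoh_cokernel φ hA.1 hB
  rw [hilbFun_sub_eq hW φ hA hB]
  refine sub_mem (ih _ hK (dim_lt_of_notMem (QCohLib.isClosed_support _ hK.2)
      ((support_mono (kernel.ι φ)).trans hAT) (notMem_support_kernel φ η h.1) hY hd))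
    (ih _ hC (dim_lt_of_notMem (QCohLib.isClosed_support _ hC.2)
      ((support_epi (cokernel.π φ)).trans hBT) (notMem_support_cokernel φ η h.2) hY hd))

variable {L : Fin r → X.Modules} (hL : ∀ i, PicF.IsInvertible (L i))
  (hstep : ∀ (n : Fin r → ℕ) (i : Fin r),
    Nonempty (W (Function.update n i (n i + 1)) ≅ CohB1.tensorMod (L i) (W n)))

include hL hstep

omit [IsProper (X ↘ Spec (CommRingCat.of k))] hL hW in
theorem diff_hilbFun (F : X.Modules) (i : Fin r) :
    diff i (hilbFun k W F) = hilbFun k W (CohB1.tensorMod (L i) F) - hilbFun k W F := by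
  funext n
  obtain ⟨e⟩ := hstep n i
  simp only [diff, Pi.sub_apply, hilbFun]
  rw [CurvLib.euler_congr (congrLeft e F ≪≫ assocIso _ _ _ ≪≫ leftComm _ _ _)]

/-- **Snapper's theorem.** -/
theorem hilbFun_mem : ∀ (d : ℕ) (F : X.Modules), Coh.IsCoh F →
    topologicalKrullDim (CohB1.support F) < (d : ℕ) → hilbFun k W F ∈ polyFun r d
  | 0, F, hF, hd => by
    rw [polyFun_zero, Submodule.mem_bot]
    have hsupp : CohB1.support F = ∅ := by
      by_contra h
      haveI : Nonempty (CohB1.support F) := (Set.nonempty_iff_ne_empty.mpr h).to_subtype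
      obtain ⟨x⟩ := ‹Nonempty (CohB1.support F)›
      haveI : Nonempty (IrreducibleCloseds (CohB1.support F)) :=
        ⟨⟨closure {x}, isIrreducible_singleton.closure, isClosed_closure⟩⟩
      have h0 : (0 : WithBot ℕ∞) < ((0 : ℕ) : WithBot ℕ∞) :=
        (Order.krullDim_nonneg (α := IrreducibleCloseds (CohB1.support F))).trans_lt hd
      simp at h0
    have hz := isZero_of_support_empty hsupp
    funext n
    have : IsZero (CohB1.tensorMod (W n) F) := isZero_of_support_empty ((support_tensor (hW n) F).trans hsupp)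
    simp [hilbFun, euler_zero this]
  | d + 1, F, hF, hd => by
    refine mem_of_diff _ fun i => ?_
    rw [diff_hilbFun hstep F i]
    have ih := hilbFun_mem d
    rcases (CohB1.support F).eq_empty_or_nonempty with hne | hne
    · have hz := isZero_of_support_empty hne
      have hz' : IsZero (CohB1.tensorMod (L i) F) :=
        isZero_of_support_empty ((support_tensor (hL i) F).trans hne)
      rw [hilbFun_congr W (hz'.iso hz), sub_self]
      exact zero_mem _
    haveI := CurvLib.isNoetherian k (X := X)
    let P : X.Modules → Prop := fun M =>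
      hilbFun k W (CohB1.tensorMod (L i) M) - hilbFun k W M ∈ polyFun r d
    have hP : ∀ M N : X.Modules, Nonempty (M ≅ N) → P M → P N := fun M N ⟨e⟩ h => by
      simp only [P] at h ⊢
      rwa [← hilbFun_congr W e, ← hilbFun_congr W (congrRight (L i) e)]
    refine devissage P hP (CohB1.support F) (fun S hS h₁ h₂ h₃ _ => ?_) hne (fun η hη hηY => ?_)
      (QCohLib.isClosed_support F hF.2) F hF le_rfl
    · have e1 : hilbFun k W (CohB1.tensorMod (L i) S.X₂) =
          hilbFun k W (CohB1.tensorMod (L i) S.X₁) + hilbFun k W (CohB1.tensorMod (L i) S.X₃) :=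
        hilbFun_add (k := k) (S := S.map (CurvLib.tensorLeft' (L i))) hW (shortExact_tensor (hL i) hS)
          (isCoh_tensor (hL i) h₁) (isCoh_tensor (hL i) h₂)
          (isCoh_tensor (hL i) h₃)
      have e2 := hilbFun_add (k := k) hW hS h₁ h₂ h₃
      simp only [P]
      rw [e1, e2, add_sub_add_comm]
      exact ⟨fun a b => by simpa using sub_mem b a, fun a b => add_mem a b,
        fun a b => by simpa using sub_mem a b⟩
    · obtain ⟨Z, j, hj, hZ, hr⟩ :=
        exists_integral_closed isClosed_closure (isIrreducible_singleton (x := η)).closure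
      have hξ : j (genericPoint Z) = η := by
        refine ((genericPoint_spec Z).image j.continuous).eq ?_
        change closure {η} = closure (⇑j '' Set.univ)
        rw [Set.image_univ, hr, closure_closure]
      obtain ⟨hG, hGs, ⟨e⟩⟩ := push_generic j _ (isCoh_structureModule Z) ⊤
        ⟨genericPoint Z, trivial⟩ fun U _ => exists_gen_structureModule U
      rw [hr] at hGs
      subst hξ
      refine ⟨_, hG, hGs, ⟨e⟩, ?_⟩
      let G := (Coh.push j).obj (Coh.structureModule Z)
      let η' := j (genericPoint Z)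
      have hG' : Coh.IsCoh (CohB1.tensorMod (L i) G) := isCoh_tensor (hL i) hG
      have hG's : CohB1.support (CohB1.tensorMod (L i) G) = closure {η'} :=
        (support_tensor (hL i) G).trans hGs
      obtain ⟨eT⟩ := CurvLib.nonempty_stalk_tensor_locFree (CurvLib.locFree_of_isInvertible (hL i)) G η'
      let e' : (St η').obj (CohB1.tensorMod (L i) G) ≃ₗ[X.presheaf.stalk η']
          IsLocalRing.ResidueField (X.presheaf.stalk η') :=
        ((St η').mapIso (swapIso (L i) G)).toLinearEquiv ≪≫ₗ eT ≪≫ₗ LinearEquiv.funUnique (Fin 1) _ _ ≪≫ₗ e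
      have hgen : ∀ y ∈ closure {η'}, y ⤳ η' → y = η' := fun y hy h =>
        (h.antisymm (specializes_iff_mem_closure.mpr hy)).eq
      obtain ⟨H, p₁, p₂, hH, hHs, hb₁, hinj, a, ha⟩ := exists_bridge hG hG'
        (fun y hy => hgen y (hGs.le hy)) (fun y hy => hgen y (hG's.le hy)) e
        (hG's.ge (subset_closure rfl))
      have hHT : CohB1.support H ⊆ closure {η'} := hHs.trans (Set.union_subset hGs.le hG's.le)
      have hb₂ : Function.Bijective ((St η').map p₂).hom := by
        refine ⟨hinj, fun b => ?_⟩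
        have hne' : e' (((St η').map p₂).hom a) ≠ 0 := fun h => ha (e'.map_eq_zero_iff.mp h)
        obtain ⟨c, hc⟩ := IsLocalRing.residue_surjective (e' b / e' (((St η').map p₂).hom a))
        refine ⟨c • a, e'.injective ?_⟩
        rw [map_smul, map_smul, Algebra.smul_def, IsLocalRing.ResidueField.algebraMap_eq, hc]
        exact div_mul_cancel₀ _ hne'
      have d1 := hilbFun_sub_mem hW ih hηY hd hH hG hHT hGs.le p₁ hb₁
      have d2 := hilbFun_sub_mem hW ih hηY hd hH hG' hHT hG's.le p₂ hb₂
      simpa [P] using sub_mem d1 d2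

end HilbPolyLib

end
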