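import Groth.Agent.HilbPolyLib.Snapper

/-!
# Intersection numbers as differences of numerical polynomials
-/

set_option autoImplicit false
universe u

open CategoryTheory CategoryTheory.Limits AlgebraicGeometry TopologicalSpace Opposite
open DevissLib

noncomputable section

namespace HilbPolyLib

/-- The exponent vector of a subset. -/
def bExp {r : ℕ} (b : Fin r → Bool) : Fin r → ℕ := fun l => if b l then 1 else 0

/-- The sign of a subset. -/
def bSgn {r : ℕ} (b : Fin r → Bool) : ℚ := ∏ l, if b l then -1 else 1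

/-- The alternating sum over the vertices of the unit cube. -/
def cubeSum {r : ℕ} : ((Fin r → ℕ) → ℚ) →ₗ[ℚ] ℚ where
  toFun f := ∑ b : Fin r → Bool, bSgn b * f (bExp b)
  map_add' f g := by simp [mul_add, Finset.sum_add_distrib]
  map_smul' c f := by simp [Finset.mul_sum, mul_left_comm]

theorem cubeSum_monFun {r : ℕ} {m : Fin r → ℕ} (h : ∃ i, m i = 0) : cubeSum (monFun m) = 0 := by
  obtain ⟨i, hi⟩ := h
  have key : cubeSum (monFun m) =
      ∏ l, ∑ b : Bool, (if b then -1 else 1) * (((if b then 1 else 0 : ℕ) : ℚ)) ^ m l := by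
    rw [Fintype.prod_sum]
    simp only [cubeSum, LinearMap.coe_mk, AddHom.coe_mk, bSgn, bExp, monFun, Finset.prod_mul_distrib]
  rw [key]
  exact Finset.prod_eq_zero (Finset.mem_univ i) (by simp [hi])

theorem cubeSum_eq_zero {r : ℕ} {f : (Fin r → ℕ) → ℚ} (hf : f ∈ polyFun r r) : cubeSum f = 0 := by
  induction hf using Submodule.span_induction with
  | mem x hx =>
    obtain ⟨m, hm, rfl⟩ := hx
    refine cubeSum_monFun ?_
    by_contra hne
    push Not at hne
    have : ∑ _l : Fin r, 1 ≤ ∑ l, m l := Finset.sum_le_sum fun l _ => Nat.one_le_iff_ne_zero.mpr (hne l)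
    simp only [Finset.sum_const, Finset.card_univ, Fintype.card_fin, smul_eq_mul, mul_one] at this
    exact absurd hm (not_lt.mpr this)
  | zero => exact map_zero _
  | add x y _ _ hx hy => rw [map_add, hx, hy, add_zero]
  | smul c x _ hx => rw [map_smul, hx, smul_zero]

theorem cubeSum_cons {r : ℕ} (f : (Fin (r + 1) → ℕ) → ℚ) :
    cubeSum f = cubeSum (fun n => f (Fin.cons 0 n)) - cubeSum (fun n => f (Fin.cons 1 n)) := by
  simp only [cubeSum, LinearMap.coe_mk, AddHom.coe_mk]
  rw [← (Fin.consEquiv fun _ => Bool).sum_comp, Fintype.sum_prod_type, Fintype.sum_bool]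
  have h1 : ∀ (c : Bool) (b : Fin r → Bool), bExp (Fin.cons c b : Fin (r + 1) → Bool) =
      Fin.cons (if c then 1 else 0) (bExp b) := fun c b => by
    funext l
    induction l using Fin.cases <;> simp [bExp]
  have h2 : ∀ (c : Bool) (b : Fin r → Bool), bSgn (Fin.cons c b : Fin (r + 1) → Bool) =
      (if c then -1 else 1) * bSgn b := fun c b => by simp [bSgn, Fin.prod_univ_succ]
  simp [Fin.consEquiv, h1, h2, Finset.sum_neg_distrib]
  ring

variable {X : Scheme.{u}}

theorem nonempty_tensorList_perm {l l' : List X.Modules} (h : l.Perm l') :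
    Nonempty (FGA.tensorList l ≅ FGA.tensorList l') := by
  induction h with
  | nil => exact ⟨Iso.refl _⟩
  | cons a _ ih => exact ⟨congrRight a ih.some⟩
  | swap a b l => exact ⟨leftComm b a _⟩
  | trans _ _ ih ih' => exact ⟨ih.some ≪≫ ih'.some⟩

theorem nonempty_tensorList_filter {ι : Type*} (M : ι → X.Modules) (p : ι → Bool) : ∀ l : List ι,
    Nonempty (FGA.tensorList (l.map fun i => CohB1.tensorPow (M i) (if p i then 1 else 0)) ≅
      FGA.tensorList ((l.filter p).map M))
  | [] => ⟨Iso.refl _⟩
  | a :: l => by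
    obtain ⟨e⟩ := nonempty_tensorList_filter M p l
    by_cases h : p a = true
    · simp only [List.map_cons, FGA.tensorList, List.filter_cons, h, ↓reduceIte, CohB1.tensorPow]
      exact ⟨congrLeft (unitLeft _) _ ≪≫ congrRight _ e⟩
    · simp only [List.map_cons, FGA.tensorList, List.filter_cons, h, Bool.false_eq_true, ↓reduceIte,
        CohB1.tensorPow]
      exact ⟨unitLeft _ ≪≫ e⟩

theorem nonempty_tensorList_sort {r : ℕ} (M : Fin r → X.Modules) (b : Fin r → Bool) :
    Nonempty (FGA.tensorList (((Finset.univ.filter fun i => b i = true).sort (· ≤ ·)).map M) ≅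
      FGA.multiTwist M (bExp b)) := by
  obtain ⟨e⟩ := nonempty_tensorList_filter M b (List.finRange r)
  have hp : ((Finset.univ.filter fun i => b i = true).sort (· ≤ ·)).Perm ((List.finRange r).filter b) :=
    (List.perm_ext_iff_of_nodup (Finset.sort_nodup _ _) ((List.nodup_finRange r).filter _)).mpr
      fun a => by simp
  obtain ⟨e'⟩ := nonempty_tensorList_perm (hp.map M)
  exact ⟨e' ≪≫ e.symm⟩

/-- Subsets as Boolean functions. -/
def subsetEquiv (r : ℕ) : Finset (Fin r) ≃ (Fin r → Bool) where
  toFun I := fun i => decide (i ∈ I)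
  invFun b := Finset.univ.filter fun i => b i = true
  left_inv I := by ext; simp
  right_inv b := by funext i; simp

variable {k : Type u} [Field k] [X.Over (Spec (CommRingCat.of k))]
  [IsProper (X ↘ Spec (CommRingCat.of k))]

theorem eulerCharLE_eq {d : ℕ} (hd : topologicalKrullDim X ≤ (d : ℕ)) (G : X.Modules) :
    FGA.eulerCharLE k X G d = Curv2.euler k X G := by
  haveI := CurvLib.isNoetherian k (X := X)
  rw [CurvLib.euler_eq_sum (d := d + 1)
    fun p hp => CurvLib.subsingleton_HH_of_dim_le _ hd p (by omega)]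
  rfl

theorem intNum_eq_cubeSum {d : ℕ} (hd : topologicalKrullDim X ≤ (d : ℕ)) {r : ℕ} (M : Fin r → X.Modules)
    (F : X.Modules) :
    (FGA.intNum k X d M F : ℚ) = cubeSum (hilbFun k (FGA.multiTwist M) F) := by
  simp only [FGA.intNum, cubeSum, LinearMap.coe_mk, AddHom.coe_mk]
  push_cast
  refine Fintype.sum_equiv (subsetEquiv r) _ _ fun I => ?_
  obtain ⟨e⟩ := nonempty_tensorList_sort M (subsetEquiv r I)
  have hI : (Finset.univ.filter fun i => subsetEquiv r I i = true) = I := (subsetEquiv r).left_inv I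
  rw [hI] at e
  have hsgn : bSgn (subsetEquiv r I) = (-1 : ℚ) ^ I.card := by
    simp [bSgn, subsetEquiv, Finset.prod_ite, Finset.filter_mem_eq_inter]
  rw [hsgn, eulerCharLE_eq hd, hilbFun, CurvLib.euler_congr (congrLeft e F)]

theorem intNum_eq_zero {d : ℕ} (hd : topologicalKrullDim X ≤ (d : ℕ)) {r : ℕ} (M : Fin r → X.Modules)
    (hM : ∀ i, PicF.IsInvertible (M i)) (F : X.Modules) (hF : Coh.IsCoh F)
    (hr : topologicalKrullDim (CohB1.support F) < (r : ℕ)) : FGA.intNum k X d M F = 0 := by
  have := cubeSum_eq_zero (hilbFun_mem (k := k) (W := FGA.multiTwist M)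
    (isInvertible_multiTwist M hM) hM (nonempty_multiTwist_step M) r F hF hr)
  rw [← intNum_eq_cubeSum hd] at this
  exact_mod_cast this

omit [X.Over (Spec (CommRingCat.of k))] [IsProper (X ↘ Spec (CommRingCat.of k))] in
theorem multiTwist_cons {r : ℕ} (A : X.Modules) (M : Fin r → X.Modules) (c : ℕ) (n : Fin r → ℕ) :
    FGA.multiTwist (Fin.cons A M : Fin (r + 1) → X.Modules) (Fin.cons c n) =
      CohB1.tensorMod (CohB1.tensorPow A c) (FGA.multiTwist M n) := by
  simp [FGA.multiTwist, List.finRange_succ, FGA.tensorList, List.map_map, Function.comp_def]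

theorem intNum_cons {d : ℕ} (hd : topologicalKrullDim X ≤ (d : ℕ)) {r : ℕ} (A : X.Modules)
    (M : Fin r → X.Modules) (F : X.Modules) :
    FGA.intNum k X d (Fin.cons A M) F =
      FGA.intNum k X d M F - FGA.intNum k X d M (CohB1.tensorMod A F) := by
  have h : (FGA.intNum k X d (Fin.cons A M) F : ℚ) =
      (FGA.intNum k X d M F : ℚ) - FGA.intNum k X d M (CohB1.tensorMod A F) := by
    rw [intNum_eq_cubeSum hd, intNum_eq_cubeSum hd, intNum_eq_cubeSum hd, cubeSum_cons]
    congr 1
    · congr 1
      funext n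
      simp only [hilbFun, multiTwist_cons, CohB1.tensorPow]
      rw [CurvLib.euler_congr (congrLeft (unitLeft (FGA.multiTwist M n)) F)]
    · congr 1
      funext n
      simp only [hilbFun, multiTwist_cons, CohB1.tensorPow]
      rw [CurvLib.euler_congr (congrLeft (congrLeft (unitLeft A) (FGA.multiTwist M n)) F ≪≫
        assocIso _ _ _ ≪≫ leftComm _ _ _)]
  exact_mod_cast h

theorem intNum_congr {d : ℕ} (hd : topologicalKrullDim X ≤ (d : ℕ)) {r : ℕ} (M : Fin r → X.Modules)
    {F G : X.Modules} (e : F ≅ G) : FGA.intNum k X d M F = FGA.intNum k X d M G := by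
  have h : (FGA.intNum k X d M F : ℚ) = FGA.intNum k X d M G := by
    rw [intNum_eq_cubeSum hd, intNum_eq_cubeSum hd, hilbFun_congr _ e]
  exact_mod_cast h

theorem intNum_tensor {d : ℕ} (hd : topologicalKrullDim X ≤ (d : ℕ)) {r : ℕ} (M : Fin r → X.Modules)
    (hM : ∀ i, PicF.IsInvertible (M i)) {A B : X.Modules} (hA : PicF.IsInvertible A)
    (hB : PicF.IsInvertible B) (F : X.Modules) (hF : Coh.IsCoh F)
    (hr : topologicalKrullDim (CohB1.support F) ≤ (r + 1 : ℕ)) :
    FGA.intNum k X d (Fin.cons (CohB1.tensorMod A B) M) F =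
      FGA.intNum k X d (Fin.cons A M) F + FGA.intNum k X d (Fin.cons B M) F := by
  have hz := intNum_eq_zero (k := k) hd (Fin.cons A (Fin.cons B M) : Fin (r + 2) → X.Modules)
    (fun i => by induction i using Fin.cases with
      | zero => exact hA
      | succ i => induction i using Fin.cases with
        | zero => exact hB
        | succ i => exact hM i) F hF
    (lt_of_le_of_lt hr (by exact_mod_cast Nat.lt_succ_self (r + 1)))
  rw [intNum_cons hd, intNum_cons hd, intNum_cons hd] at hz
  rw [intNum_cons hd, intNum_cons hd, intNum_cons hd,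
    intNum_congr hd M (assocIso A B F ≪≫ leftComm A B F)]
  linear_combination -hz

end HilbPolyLib

end
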