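import Groth.Agent.HilbPolyLib.Ample

/-!
# Positivity of the multiplicity
-/

set_option autoImplicit false
universe u

open CategoryTheory CategoryTheory.Limits AlgebraicGeometry TopologicalSpace Opposite
open DevissLib

noncomputable section

namespace HilbPolyLib

/-- A component of largest dimension and the union of the others. -/
theorem exists_top_component {α : Type u} [TopologicalSpace α] [T0Space α] [QuasiSober α]
    [NoetherianSpace α] {T : Set α} (hT : IsClosed T) {d : ℕ}
    (hd : topologicalKrullDim T = (d : ℕ)) :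
    ∃ (x : α) (Z' : Set α), x ∈ T ∧ topologicalKrullDim (closure ({x} : Set α)) = (d : ℕ) ∧
      IsClosed Z' ∧ x ∉ Z' ∧ T ⊆ closure {x} ∪ Z' := by
  haveI : QuasiSober T := hT.isClosedEmbedding_subtypeVal.quasiSober
  obtain ⟨z, hz, hzd⟩ : ∃ z : T, closure {z} ∈ irreducibleComponents T ∧
      topologicalKrullDim (closure ({z} : Set T)) = (d : ℕ) := by
    by_contra h
    push Not at h
    have hlt : ∀ z : T, closure {z} ∈ irreducibleComponents T →
        topologicalKrullDim (closure ({z} : Set T)) < (d : ℕ) := fun z hz =>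
      lt_of_le_of_ne ((topologicalKrullDim_subspace_le _ _).trans hd.le) (h z hz)
    rcases d with - | d
    · have hbot := FibDimLib.topologicalKrullDim_le_of_generic (A := T) (c := ⊥) fun z hz => by
        by_contra hb
        haveI : Nonempty (IrreducibleCloseds (closure ({z} : Set T))) :=
          ⟨⟨closure {⟨z, subset_closure rfl⟩}, isIrreducible_singleton.closure, isClosed_closure⟩⟩
        have h0 : (0 : WithBot ℕ∞) < ((0 : ℕ) : WithBot ℕ∞) :=
          (Order.krullDim_nonneg (α := IrreducibleCloseds (closure ({z} : Set T)))).trans_lt (hlt z hz)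
        simp at h0
      rw [hd] at hbot
      simp at hbot
    · have hle := FibDimLib.topologicalKrullDim_le_of_generic (A := T) (c := ((d : ℕ) : WithBot ℕ∞))
        fun z hz => FibDimLib.le_of_forall_nat_le fun n hn => by
          exact_mod_cast Nat.lt_succ_iff.mp (by exact_mod_cast hn.trans_lt (hlt z hz))
      rw [hd] at hle
      have : d + 1 ≤ d := by exact_mod_cast hle
      omega
  let others : Set (Set T) := irreducibleComponents T \ {closure {z}}
  have hfin : others.Finite := NoetherianSpace.finite_irreducibleComponents.sdiff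
  have hcl : IsClosed (⋃ C ∈ others, C) :=
    hfin.isClosed_biUnion fun C hC => isClosed_of_mem_irreducibleComponents C hC.1
  refine ⟨z.1, Subtype.val '' (⋃ C ∈ others, C), z.2, ?_, hT.isClosedEmbedding_subtypeVal.isClosedMap _ hcl,
    ?_, fun y hy => ?_⟩
  · have himg : Subtype.val '' closure ({z} : Set T) = closure ({z.1} : Set α) := by
      rw [← hT.isClosedEmbedding_subtypeVal.closure_image_eq, Set.image_singleton]
    rw [← hzd, ← himg]
    exact (IsHomeomorph.topologicalKrullDim_eq _
      ((Topology.IsEmbedding.subtypeVal.homeomorphImage (closure {z})).isHomeomorph)).symm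
  · rintro ⟨w, hw, hwz⟩
    obtain rfl : w = z := Subtype.ext hwz
    obtain ⟨C, hC, hwC⟩ := Set.mem_iUnion₂.mp hw
    have hsub : closure {w} ⊆ C :=
      closure_minimal (Set.singleton_subset_iff.mpr hwC) (isClosed_of_mem_irreducibleComponents C hC.1)
    exact hC.2 (le_antisymm (hz.2 hC.1.1 hsub) hsub)
  · by_cases h : irreducibleComponent (⟨y, hy⟩ : T) = closure {z}
    · refine Or.inl ?_
      have hmem : (⟨y, hy⟩ : T) ∈ closure {z} := h ▸ mem_irreducibleComponent
      simpa [closure_subtype] using hmem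
    · exact Or.inr ⟨⟨y, hy⟩, Set.mem_biUnion
        (show irreducibleComponent (⟨y, hy⟩ : T) ∈ others from
          ⟨irreducibleComponent_mem_irreducibleComponents _, h⟩) mem_irreducibleComponent, rfl⟩

variable {X : Scheme.{u}} {k : Type u} [Field k] [X.Over (Spec (CommRingCat.of k))]
  [IsProper (X ↘ Spec (CommRingCat.of k))] {L : X.Modules} (hA : CohB1.IsAmple L)

include hA

/-- Modules agreeing at the generic point have the same multiplicity. -/
theorem alpha_le_of_stalk {d : ℕ} {η : X} (hη : topologicalKrullDim (closure ({η} : Set X)) = (d : ℕ))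
    {A B : X.Modules} (hA' : Coh.IsCoh A) (hB : Coh.IsCoh B) (hAT : CohB1.support A ⊆ closure {η})
    (hBT : CohB1.support B ⊆ closure {η}) (φ : A ⟶ B) (hinj : Function.Injective ((St η).map φ).hom)
    {P Q : Polynomial ℚ} (hP : ShStab.IsHilbPoly k X L A P) (hQ : ShStab.IsHilbPoly k X L B Q) :
    StabCat.alpha d P ≤ StabCat.alpha d Q ∧
      (Function.Surjective ((St η).map φ).hom → StabCat.alpha d P = StabCat.alpha d Q) := by
  haveI := CurvLib.isNoetherian k (X := X)
  have hL := hA.1
  have hK := QCohLib.isCoh_kernel φ hA' hB.1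
  have hC := QCohLib.isCoh_cokernel φ hA'.1 hB
  have hI := isCoh_image φ hA' hB
  obtain ⟨pK, hpK⟩ := exists_isHilbPoly' (k := k) hL hK
  obtain ⟨pI, hpI⟩ := exists_isHilbPoly' (k := k) hL hI
  obtain ⟨pC, hpC⟩ := exists_isHilbPoly' (k := k) hL hC
  have e1 := isHilbPoly_unique hP (isHilbPoly_add (S := kerImSeq φ) hL (kerImSeq_shortExact φ) hK hA' hI hpK hpI)
  have e2 := isHilbPoly_unique hQ (isHilbPoly_add (S := imCokSeq φ) hL (imCokSeq_shortExact φ) hI hB hC hpI hpC)
  have hd1 : topologicalKrullDim (closure ({η} : Set X)) < ((d + 1 : ℕ) : WithBot ℕ∞) := by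
    rw [hη]; exact_mod_cast Nat.lt_succ_self d
  have small : ∀ (N : X.Modules) (R : Polynomial ℚ), Coh.IsCoh N → CohB1.support N ⊆ closure {η} →
      η ∉ CohB1.support N → ShStab.IsHilbPoly k X L N R → StabCat.alpha d R = 0 := by
    intro N R hN hs hn hR
    obtain ⟨R', hR', hR''⟩ := exists_isHilbPoly (k := k) hL hN
      (dim_lt_of_notMem (QCohLib.isClosed_support _ hN.2) hs hn subset_rfl hd1)
    rw [isHilbPoly_unique hR hR'', StabCat.alpha, Polynomial.coeff_eq_zero_of_degree_lt hR', mul_zero]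
  have hk0 := small _ pK hK ((support_mono (kernel.ι φ)).trans hAT) (notMem_support_kernel φ η hinj) hpK
  have hadd : ∀ R R' : Polynomial ℚ, StabCat.alpha d (R + R') = StabCat.alpha d R + StabCat.alpha d R' :=
    fun R R' => by simp [StabCat.alpha, mul_add]
  have hBd : topologicalKrullDim (CohB1.support (cokernel φ)) ≤ ((d : ℕ) : WithBot ℕ∞) := by
    refine le_trans ?_ hη.le
    exact Topology.IsInducing.topologicalKrullDim_le (f := Set.inclusion ((support_epi (cokernel.π φ)).trans hBT))
      (Topology.IsEmbedding.inclusion _).isInducing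
  rw [e1, e2, hadd, hadd, hk0, zero_add]
  refine ⟨le_add_of_nonneg_right (alpha_nonneg hA hC hpC hBd), fun hsurj => ?_⟩
  rw [small _ pC hC ((support_epi (cokernel.π φ)).trans hBT) (notMem_support_cokernel φ η hsurj) hpC, add_zero]

/-- **The multiplicity is positive.** -/
theorem alpha_pos {F : X.Modules} (hF : Coh.IsCoh F) {P : Polynomial ℚ}
    (hP : ShStab.IsHilbPoly k X L F P) {d : ℕ}
    (hd : topologicalKrullDim (CohB1.support F) = (d : ℕ)) : 0 < StabCat.alpha d P := by
  haveI := CurvLib.isNoetherian k (X := X)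
  have hL := hA.1
  obtain ⟨x, Z', hxT, hxd, hZ', hxZ', hsub⟩ := exists_top_component (QCohLib.isClosed_support F hF.2) hd
  obtain ⟨Z, j, hj, hZ, hr⟩ := exists_integral_closed isClosed_closure (isIrreducible_singleton (x := x)).closure
  have hξ : j (genericPoint Z) = x := by
    refine ((genericPoint_spec Z).image j.continuous).eq ?_
    change closure {x} = closure (⇑j '' Set.univ)
    rw [Set.image_univ, hr, closure_closure]
  obtain ⟨hG, hGs, ⟨e⟩⟩ := push_generic j _ (isCoh_structureModule Z) ⊤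
    ⟨genericPoint Z, trivial⟩ fun U _ => exists_gen_structureModule U
  rw [hr] at hGs
  subst hξ
  let G := (Coh.push j).obj (Coh.structureModule Z)
  let η := j (genericPoint Z)
  obtain ⟨pG, hpG⟩ := exists_isHilbPoly' (k := k) hL hG
  have hGd : topologicalKrullDim (CohB1.support G) = ((d : ℕ) : WithBot ℕ∞) := by
    rw [show CohB1.support G = closure {η} from hGs]; exact hxd
  let g : Γ(G, ⊤) := (1 : Γ(Z, j ⁻¹ᵁ (⊤ : X.Opens)))
  have hg : gm G η (show η ∈ (⊤ : X.Opens) from trivial) g ≠ 0 := by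
    intro h
    obtain ⟨W, hηW, i₁, i₂, hW⟩ := TopCat.Presheaf.germ_eq G.presheaf η
      (show η ∈ (⊤ : X.Opens) from trivial) (show η ∈ (⊤ : X.Opens) from trivial) g 0
      (h.trans (gm_zero G η (show η ∈ (⊤ : X.Opens) from trivial)).symm)
    rw [map_zero] at hW
    haveI : Nonempty (j ⁻¹ᵁ W : Z.Opens) := ⟨⟨genericPoint Z, hηW⟩⟩
    haveI : Nontrivial Γ(Z, j ⁻¹ᵁ W) := inferInstance
    exact one_ne_zero (α := Γ(Z, j ⁻¹ᵁ W)) ((map_one (Z.presheaf.map (homOfLE (j.preimage_mono i₁.le)).op).hom).symm.trans hW)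
  have hGpos : 0 < StabCat.alpha d pG := alpha_pos_of_section hA hG hpG hGd.le hxd g hg
  obtain ⟨S, hS, ⟨i⟩, hc₁, hc₃, hs₁, hs₃⟩ := exists_split hF isClosed_closure hZ' hsub
  obtain ⟨p₁', hp₁'⟩ := exists_isHilbPoly' (k := k) hL hc₁
  obtain ⟨p₃, hp₃⟩ := exists_isHilbPoly' (k := k) hL hc₃
  have hc₂ : Coh.IsCoh S.X₂ := QCohLib.isCoh_of_iso i.symm hF
  have eP := isHilbPoly_unique hP (isHilbPoly_congr i (isHilbPoly_add hL hS hc₁ hc₂ hc₃ hp₁' hp₃))
  have h1d : topologicalKrullDim (CohB1.support S.X₁) ≤ ((d : ℕ) : WithBot ℕ∞) := by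
    haveI := hS.mono_f
    refine le_trans ?_ hd.le
    exact Topology.IsInducing.topologicalKrullDim_le
      (f := Set.inclusion ((support_mono S.f).trans (support_iso i).le))
      (Topology.IsEmbedding.inclusion _).isInducing
  have hη₃ : η ∈ CohB1.support S.X₃ := by
    by_contra h3
    refine hxT ?_
    haveI : Subsingleton ((S.map (St η)).X₁ : Type u) := not_not.mp fun h => hxZ' (hs₁ h)
    haveI : Subsingleton ((S.map (St η)).X₃ : Type u) := not_not.mp h3
    have hx := hS.map_of_exact (St η)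
    have hz : IsZero ((St η).obj S.X₂) := hx.exact.isZero_X₂
      ((ModuleCat.isZero_of_subsingleton _).eq_of_src _ _) ((ModuleCat.isZero_of_subsingleton _).eq_of_tgt _ _)
    haveI : Subsingleton ((St η).obj S.X₂) := ModuleCat.subsingleton_of_isZero hz
    exact (((St η).mapIso i).toLinearEquiv.toEquiv.symm.subsingleton)
  have hgen : ∀ y ∈ closure {η}, y ⤳ η → y = η := fun y hy h =>
    (h.antisymm (specializes_iff_mem_closure.mpr hy)).eq
  obtain ⟨H, q₁, q₂, hH, hHs, hb₁, hinj, a, ha⟩ := exists_bridge hG hc₃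
    (fun y hy => hgen y (hGs.le hy)) (fun y hy => hgen y (hs₃ hy)) e hη₃
  obtain ⟨pH, hpH⟩ := exists_isHilbPoly' (k := k) hL hH
  have hHT : CohB1.support H ⊆ closure {η} := hHs.trans (Set.union_subset hGs.le hs₃)
  have l1 := (alpha_le_of_stalk hA hxd hH hG hHT hGs.le q₁ hb₁.1 hpH hpG).2 hb₁.2
  have l2 := (alpha_le_of_stalk hA hxd hH hc₃ hHT hs₃ q₂ hinj hpH hp₃).1
  have l3 := alpha_nonneg hA hc₁ hp₁' h1d
  have : StabCat.alpha d P = StabCat.alpha d p₁' + StabCat.alpha d p₃ := by
    rw [eP]; simp [StabCat.alpha, mul_add]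
  linarith

end HilbPolyLib

end
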