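import Groth.Agent.HilbPolyLib.Basic
import Groth.Agent.RpushLib.AffBaseBC
import Groth.Agent.AmpleDevLib.Pull
import Groth.Agent.KFlatLib.QCohPull
import Mathlib.LinearAlgebra.Dimension.Constructions

/-!
# Euler characteristics and Hilbert polynomials under extension of the base field
-/

set_option autoImplicit false
universe u

open CategoryTheory CategoryTheory.Limits AlgebraicGeometry TopologicalSpace Opposite
open scoped TensorProduct

noncomputable section

namespace HilbPolyLib

variable {k : Type u} [Field k] {X : Scheme.{u}} [X.Over (Spec (CommRingCat.of k))]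
  (K : Type u) [Field K] [Algebra k K]

/-- The structure over the bigger field. -/
@[reducible] def bcOver : (Curv2.bc k X K).Over (Spec (CommRingCat.of K)) := ⟨Curv2.bcSnd k X K⟩

theorem finrank_HH_bc [IsProper (X ↘ Spec (CommRingCat.of k))] {F : X.Modules} (hF : Coh.IsQCoh F) (i : ℕ) :
    letI := bcOver (k := k) (X := X) K
    Module.finrank K (Coh.HH (Curv2.bc k X K) ((Scheme.Modules.pullback (Curv2.bcFst k X K)).obj F) i) =
      Module.finrank k (Coh.HH X F i) := by
  letI := bcOver (k := k) (X := X) K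
  haveI := CurvLib.isNoetherian k (X := X)
  obtain ⟨e⟩ := RpushLib.nonempty_affBase_bc (A := k) (B := K) (g' := Curv2.bcFst k X K)
    (f' := Curv2.bcSnd k X K) (f := X ↘ Spec (CommRingCat.of k)) (IsPullback.of_hasPullback _ _) F i
  exact e.finrank_eq.symm.trans (Module.finrank_baseChange (R := K) (S := k) (M' := Coh.HH X F i))

theorem euler_bc [IsProper (X ↘ Spec (CommRingCat.of k))] {F : X.Modules} (hF : Coh.IsQCoh F) :
    @Curv2.euler K _ (Curv2.bc k X K) (bcOver (k := k) (X := X) K)
        ((Scheme.Modules.pullback (Curv2.bcFst k X K)).obj F) = Curv2.euler k X F := by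
  unfold Curv2.euler
  exact finsum_congr fun i => by rw [finrank_HH_bc K hF i]

theorem isHilbPoly_bc [IsProper (X ↘ Spec (CommRingCat.of k))] {L F : X.Modules}
    (hL : PicF.IsInvertible L) (hF : Coh.IsCoh F) {P : Polynomial ℚ}
    (hP : ShStab.IsHilbPoly k X L F P) :
    @ShStab.IsHilbPoly K _ (Curv2.bc k X K) (bcOver (k := k) (X := X) K)
      ((Scheme.Modules.pullback (Curv2.bcFst k X K)).obj L)
      ((Scheme.Modules.pullback (Curv2.bcFst k X K)).obj F) P := by
  intro m
  letI := bcOver (k := k) (X := X) K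
  rw [← hP m]
  obtain ⟨φ, -⟩ := AmpleDevLib.exists_pullPowIso (Curv2.bcFst k X K) hL m
  refine congrArg Int.cast (Eq.trans ?_ (euler_bc K (F := ShStab.twist X L F m) ?_))
  · refine (CurvLib.euler_congr ?_).symm
    haveI := KFlatLib.isIso_pullθ (Curv2.bcFst k X K) F (CohB1.tensorPow L m)
    exact @asIso _ _ _ _ (KFlatLib.pullθ (Curv2.bcFst k X K) F (CohB1.tensorPow L m)) this ≪≫ congrRight _ φ
  · exact (SerreVanLib.isCoh_tensor hF (AmpleThLib.tensorPow_isInvertible hL m)).1

theorem isAmple_bc {L : X.Modules} (hA : CohB1.IsAmple L) :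
    CohB1.IsAmple ((Scheme.Modules.pullback (Curv2.bcFst k X K)).obj L) :=
  haveI : IsAffineHom (Curv2.bcFst k X K) := MorphismProperty.pullback_fst _ _ inferInstance
  AmpleDevLib.isAmple_pb (Curv2.bcFst k X K) hA.1 hA

end HilbPolyLib

end
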