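import Groth.Agent.HilbPolyLib.Twist
import Groth.Agent.CurvLib.StalkSum
import Groth.Agent.AmpleThLib.Ample
import Groth.Agent.FibDimLib.ClosureDim
import Groth.Agent.CommAlgDim.Integral
import Mathlib.RingTheory.NoetherNormalization

/-!
# A lower bound for sections of twists
-/

set_option autoImplicit false
universe u

open CategoryTheory CategoryTheory.Limits AlgebraicGeometry TopologicalSpace Opposite
open AmpleLib AmpleThLib DevissLib

noncomputable section

namespace HilbPolyLib

variable {X : Scheme.{u}}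

/-- The germ of `e ⊗ g` for a generator `e`. -/
theorem gm_shT_ne_zero {P M : X.Modules} {V : X.Opens} {e : Γ(P, V)} (he : GenOn P e) (g : Γ(M, V))
    {x : X} (hx : x ∈ V) (hg : gm M x hx g ≠ 0) : gm (CohB1.tensorMod P M) x hx (shT e g) ≠ 0 := by
  intro h
  let R := X.presheaf.stalk x
  have hbij : Function.Bijective (LinearMap.toSpanSingleton R _ (P.presheaf.germ V x hx e)) := he.genAt hx
  let eP : R ≃ₗ[R] P.presheaf.stalk x := LinearEquiv.ofBijective _ hbij
  let E := TensorProduct.congr eP (LinearEquiv.refl R (M.presheaf.stalk x)) ≪≫ₗ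
    LinearEquiv.ofBijective (KFlatLib.stalkTensorLin P M x) (KFlatLib.stalkTensorLin_bijective P M x)
  have h1 : E ((1 : R) ⊗ₜ M.presheaf.germ V x hx g) = gm (CohB1.tensorMod P M) x hx (shT e g) := by
    refine (congrArg (KFlatLib.stalkTensorLin P M x) ?_).trans
      (KFlatLib.stalkTensorLin_germ P M x hx e g)
    refine (TensorProduct.congr_tmul eP (LinearEquiv.refl R _) 1 _).trans ?_
    refine congrArg₂ (· ⊗ₜ[R] ·) ?_ rfl
    exact one_smul R (P.presheaf.germ V x hx e)
  replace h1 := E.injective ((h1.trans h).trans (map_zero E).symm)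
  have h2 := congrArg (TensorProduct.lid R (M.presheaf.stalk x)) h1
  rw [TensorProduct.lid_tmul, one_smul, map_zero] at h2
  exact hg h2

variable {P : X.Modules} {V : X.Opens} (τ : Γ(P, ⊤))

/-- `c ∈ Γ(X, V)` is the coefficient of a global section of `P^n`. -/
def Reached (n : ℕ) (c : Γ(X, V)) : Prop :=
  ∃ s : Γ(CohB1.tensorPow P n, ⊤),
    res _ le_top s = c • pS (res P (le_top : V ≤ ⊤) τ) n

theorem reached_one_zero : Reached τ 0 (1 : Γ(X, V)) :=
  ⟨(1 : Γ(X, ⊤)), by
    rw [one_smul]
    exact map_one (X.presheaf.map (homOfLE (le_top : V ≤ ⊤)).op).hom⟩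

theorem reached_mul {n : ℕ} {c t : Γ(X, V)} (hc : Reached τ n c) (u : Γ(P, ⊤))
    (hu : res P (le_top : V ≤ ⊤) u = t • res P (le_top : V ≤ ⊤) τ) : Reached τ (n + 1) (c * t) := by
  obtain ⟨s, hs⟩ := hc
  refine ⟨shT s u, (shT_res le_top s u).trans ?_⟩
  rw [hs, hu, shT_smul]
  rfl

theorem reached_prod {δ : ℕ} (t : Fin δ → Γ(X, V)) (u : Fin δ → Γ(P, ⊤))
    (hu : ∀ i, res P (le_top : V ≤ ⊤) (u i) = t i • res P (le_top : V ≤ ⊤) τ) :
    ∀ (n : ℕ) (α : Fin δ → ℕ), ∑ i, α i ≤ n → Reached τ n (∏ i, t i ^ α i)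
  | 0, α, h => by
    have : ∀ i, α i = 0 := fun i =>
      Nat.le_zero.mp (le_trans (Finset.single_le_sum (fun j _ => Nat.zero_le (α j)) (Finset.mem_univ i)) h)
    simp only [this, pow_zero, Finset.prod_const_one]
    exact reached_one_zero τ
  | n + 1, α, h => by
    by_cases h' : ∑ i, α i ≤ n
    · have := reached_mul τ (t := 1) (reached_prod t u hu n α h') τ (one_smul _ _).symm
      rwa [mul_one] at this
    obtain ⟨i, hi⟩ : ∃ i, α i ≠ 0 := by
      by_contra h0
      push Not at h0
      exact h' (by simp [h0])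
    let β := Function.update α i (α i - 1)
    have hsum : ∑ j, β j + 1 = ∑ j, α j := by
      rw [← Finset.add_sum_erase _ β (Finset.mem_univ i), ← Finset.add_sum_erase _ α (Finset.mem_univ i),
        Finset.sum_congr rfl fun j hj => show β j = α j from Function.update_of_ne (Finset.ne_of_mem_erase hj) _ _]
      simp only [β, Function.update_self]
      rw [Nat.add_right_comm, Nat.sub_add_cancel (Nat.pos_of_ne_zero hi)]
    have key : (∏ j, t j ^ β j) * t i = ∏ j, t j ^ α j := by
      rw [← Finset.mul_prod_erase _ (fun j => t j ^ β j) (Finset.mem_univ i),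
        ← Finset.mul_prod_erase _ (fun j => t j ^ α j) (Finset.mem_univ i),
        Finset.prod_congr rfl fun j hj => show t j ^ β j = t j ^ α j by
          rw [show β j = α j from Function.update_of_ne (Finset.ne_of_mem_erase hj) _ _]]
      simp only [β, Function.update_self]
      rw [mul_right_comm, ← pow_succ, Nat.sub_add_cancel (Nat.pos_of_ne_zero hi)]
    rw [← key]
    exact reached_mul τ (reached_prod t u hu n β (by omega)) (u i) (hu i)

variable {k : Type u} [Field k] [X.Over (Spec (CommRingCat.of k))]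

/-- The base field inside the sections over an open. -/
abbrev kTo (k : Type u) [Field k] [X.Over (Spec (CommRingCat.of k))] (V : X.Opens) : k →+* Γ(X, V) :=
  (X.presheaf.map (homOfLE (le_top : V ≤ ⊤)).op).hom.comp
    (show k →+* Γ(X, ⊤) from Coh.toGlobal (X ↘ Spec (CommRingCat.of k)))

theorem finiteType_kTo [LocallyOfFiniteType (X ↘ Spec (CommRingCat.of k))] (hV : IsAffineOpen V) :
    (kTo k V).FiniteType := by
  let f := X ↘ Spec (CommRingCat.of k)
  have h1 := f.finiteType_appLE (isAffineOpen_top (Spec (CommRingCat.of k))) hV (show V ≤ f ⁻¹ᵁ ⊤ from le_top)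
  have h2 : kTo k V = (f.appLE ⊤ V le_top).hom.comp (Scheme.ΓSpecIso (CommRingCat.of k)).inv.hom := rfl
  rw [h2]
  exact h1.comp (RingHom.FiniteType.of_surjective _
    (ConcreteCategory.bijective_of_isIso (Scheme.ΓSpecIso (CommRingCat.of k)).inv).2)

/-- Enough sections of twists, along a point `x` whose closure has dimension `δ`. -/
theorem le_finrank_h0 {M : X.Modules} {x : X} (hV : IsAffineOpen V) (hxV : x ∈ V)
    (hτ : GenOn P (res P (le_top : V ≤ ⊤) τ)) {δ : ℕ}
    (t : MvPolynomial (Fin δ) k →+* Γ(X, V) ⧸ (hV.primeIdealOf ⟨x, hxV⟩).asIdeal)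
    (htk : ∀ c : k, t (MvPolynomial.C c) = Ideal.Quotient.mk _ (kTo k V c)) (hinj : Function.Injective t)
    (tl : Fin δ → Γ(X, V)) (htl : ∀ i, Ideal.Quotient.mk _ (tl i) = t (MvPolynomial.X i))
    (u : Fin δ → Γ(P, ⊤)) (hu : ∀ i, res P (le_top : V ≤ ⊤) (u i) = tl i • res P (le_top : V ≤ ⊤) τ)
    (g : Γ(M, ⊤)) (hg : gm M x (show x ∈ (⊤ : X.Opens) from trivial) g ≠ 0) (j n : ℕ) (hn : δ * j ≤ n)
    [Module.Finite k (Coh.HH X (CohB1.tensorMod (CohB1.tensorPow P n) M) 0)] :
    (j + 1) ^ δ ≤ Module.finrank k (Coh.HH X (CohB1.tensorMod (CohB1.tensorPow P n) M) 0) := by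
  classical
  let N := CohB1.tensorMod (CohB1.tensorPow P n) M
  letI := CurvLib.secModule (k := k) N
  haveI : Module.Finite k Γ(N, ⊤) := Module.Finite.equiv (CurvLib.hhZeroEquiv (k := k) N)
  rw [(CurvLib.hhZeroEquiv (k := k) N).finrank_eq]
  let ι := Fin δ → Fin (j + 1)
  have hreach : ∀ α : ι, Reached τ n (∏ i, tl i ^ (α i : ℕ)) := fun α =>
    reached_prod τ tl u hu n _ (((Finset.sum_le_sum fun i _ => Nat.lt_succ_iff.mp (α i).2).trans (by simp)).trans hn)
  choose s hs using hreach
  let w : ι → Γ(N, ⊤) := fun α => shT (s α) g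
  have hcard : Fintype.card ι = (j + 1) ^ δ := by simp [ι]
  rw [← hcard]
  refine LinearIndependent.fintype_card_le_finrank (b := w) ?_
  rw [Fintype.linearIndependent_iff]
  intro c hc
  let e := pS (res P (le_top : V ≤ ⊤) τ) n
  let gV := res M (le_top : V ≤ ⊤) g
  have hgV : gm M x hxV gV ≠ 0 := by rwa [show gm M x hxV gV = gm M x (show x ∈ (⊤ : X.Opens) from trivial) g from gm_map M le_top x hxV g]
  have hz := gm_shT_ne_zero (pS_genOn hτ n) gV hxV hgV
  let F : Γ(X, V) := ∑ α : ι, kTo k V (c α) * ∏ i, tl i ^ (α i : ℕ)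
  have hres : res N (le_top : V ≤ ⊤) (∑ α, c α • w α) = F • shT e gV := by
    change N.presheaf.map _ _ = _
    rw [map_sum, Finset.sum_smul]
    refine Finset.sum_congr rfl fun α _ => ?_
    change res N le_top ((show Γ(X, ⊤) from Coh.toGlobal (X ↘ Spec (CommRingCat.of k)) (c α)) • shT (s α) g) = _
    rw [res_smul, shT_res, hs α, mul_smul]
    refine congrArg ((kTo k V (c α)) • ·) ?_
    have h5 := shT_smul (∏ i, tl i ^ (α i : ℕ)) 1 e gV
    rw [one_smul, mul_one] at h5
    exact h5
  rw [hc] at hres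
  have hzero : F • shT e gV = 0 := hres.symm.trans (map_zero (N.presheaf.map _).hom)
  have hFp : F ∈ (hV.primeIdealOf ⟨x, hxV⟩).asIdeal := by
    by_contra hF
    have hunit : IsUnit (X.presheaf.germ V x hxV F) := by
      haveI := hV.isLocalization_stalk ⟨x, hxV⟩
      letI := TopCat.Presheaf.algebra_section_stalk X.presheaf (⟨x, hxV⟩ : V)
      exact IsLocalization.map_units (M := (hV.primeIdealOf ⟨x, hxV⟩).asIdeal.primeCompl)
        (X.presheaf.stalk x) ⟨F, hF⟩
    have := congrArg (gm N x hxV) hzero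
    rw [gm_smul, gm_zero] at this
    exact hz (hunit.smul_eq_zero.mp this)
  let Q : MvPolynomial (Fin δ) k := ∑ α : ι,
    MvPolynomial.monomial (Finsupp.equivFunOnFinite.symm fun i => (α i : ℕ)) (c α)
  have hQ : t Q = 0 := by
    rw [← (Ideal.Quotient.eq_zero_iff_mem.mpr hFp)]
    simp only [Q, F, map_sum, map_mul, map_prod, map_pow, htl, ← htk]
    refine Finset.sum_congr rfl fun α _ => ?_
    rw [MvPolynomial.monomial_eq, map_mul, Finsupp.prod_fintype _ _ (fun _ => pow_zero _), map_prod]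
    simp
  have hQ0 : Q = 0 := hinj (hQ.trans (map_zero t).symm)
  intro α
  have hcoef := congrArg (MvPolynomial.coeff (Finsupp.equivFunOnFinite.symm fun i => (α i : ℕ))) hQ0
  rw [MvPolynomial.coeff_sum, MvPolynomial.coeff_zero, Finset.sum_eq_single α] at hcoef
  · simpa using hcoef
  · intro β _ hβ
    rw [MvPolynomial.coeff_monomial, if_neg]
    exact fun h => hβ (funext fun i => Fin.ext (congrFun (Finsupp.equivFunOnFinite.symm.injective h) i))
  · exact fun h => absurd (Finset.mem_univ α) h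

end HilbPolyLib

end
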