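import Groth.Agent.HilbPolyLib.Basic
import Groth.Agent.HilbPolyLib.Bound
import Groth.Agent.SerreVanLib.Main

/-!
# Hilbert polynomials for an ample module
-/

set_option autoImplicit false
universe u

open CategoryTheory CategoryTheory.Limits AlgebraicGeometry TopologicalSpace Opposite
open DevissLib AmpleLib AmpleThLib

noncomputable section

namespace HilbPolyLib

variable {X : Scheme.{u}} {k : Type u} [Field k] [X.Over (Spec (CommRingCat.of k))]
  [IsProper (X ↘ Spec (CommRingCat.of k))] {L : X.Modules} (hA : CohB1.IsAmple L)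

include hA

/-- For large twists the Hilbert polynomial counts global sections. -/
theorem exists_eval_eq_finrank {F : X.Modules} (hF : Coh.IsCoh F) {P : Polynomial ℚ}
    (hP : ShStab.IsHilbPoly k X L F P) : ∃ N : ℕ, ∀ m : ℕ, N ≤ m →
      P.eval (m : ℚ) = (Module.finrank k (Coh.HH X (CohB1.tensorMod (CohB1.tensorPow L m) F) 0) : ℚ) := by
  obtain ⟨N, hN⟩ := SerreVanLib.exists_vanishing (X ↘ Spec (CommRingCat.of k)) hA.1 hA F hF
  refine ⟨N, fun m hm => ?_⟩
  rw [← hP m, euler_twist, CurvLib.euler_eq_finrank fun p hp =>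
    SerreVanLib.subsingleton_HH_of_iso (swapIso (CohB1.tensorPow L m) F) p (hN m hm p hp)]
  norm_cast

theorem eventually_nonneg {F : X.Modules} (hF : Coh.IsCoh F) {P : Polynomial ℚ}
    (hP : ShStab.IsHilbPoly k X L F P) : ∃ N : ℕ, ∀ m : ℕ, N ≤ m → 0 ≤ P.eval (m : ℚ) := by
  obtain ⟨N, hN⟩ := exists_eval_eq_finrank hA hF hP
  exact ⟨N, fun m hm => (hN m hm).symm ▸ Nat.cast_nonneg _⟩

theorem natDegree_le {F : X.Modules} (hF : Coh.IsCoh F) {P : Polynomial ℚ}
    (hP : ShStab.IsHilbPoly k X L F P) {d : ℕ} (hd : topologicalKrullDim (CohB1.support F) ≤ (d : ℕ)) :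
    P.natDegree ≤ d := by
  obtain ⟨Q, hQ, hQ'⟩ := exists_isHilbPoly (k := k) hA.1 hF
    (hd.trans_lt (by exact_mod_cast Nat.lt_succ_self d : ((d : ℕ) : WithBot ℕ∞) < ((d + 1 : ℕ) : WithBot ℕ∞)))
  rw [isHilbPoly_unique hP hQ']
  by_cases h0 : Q = 0
  · simp [h0]
  · rw [Polynomial.degree_eq_natDegree h0] at hQ
    exact Nat.lt_succ_iff.mp (by exact_mod_cast hQ)

theorem alpha_nonneg {F : X.Modules} (hF : Coh.IsCoh F) {P : Polynomial ℚ}
    (hP : ShStab.IsHilbPoly k X L F P) {d : ℕ} (hd : topologicalKrullDim (CohB1.support F) ≤ (d : ℕ)) :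
    0 ≤ StabCat.alpha d P := by
  obtain ⟨N, hN⟩ := eventually_nonneg hA hF hP
  exact mul_nonneg (Nat.cast_nonneg _) (coeff_nonneg_of_eventually (natDegree_le hA hF hP hd) hN)

theorem alpha_pos_of_section {G : X.Modules} (hG : Coh.IsCoh G) {P : Polynomial ℚ}
    (hP : ShStab.IsHilbPoly k X L G P) {d : ℕ} (hd : topologicalKrullDim (CohB1.support G) ≤ (d : ℕ))
    {x : X} (hx : topologicalKrullDim (closure ({x} : Set X)) = (d : ℕ))
    (g : Γ(G, ⊤)) (hg : gm G x (show x ∈ (⊤ : X.Opens) from trivial) g ≠ 0) :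
    0 < StabCat.alpha d P := by
  classical
  let q := X ↘ Spec (CommRingCat.of k)
  haveI := CurvLib.isNoetherian k (X := X)
  have hL := hA.1
  obtain ⟨n₀, V, hn₀, ⟨σ, hσ⟩, hxV, hV⟩ := ((AmpleThLib.isAmple_iff (hL := hL)).mp hA).2 x
  subst hσ
  set V := TwistLib.genSet (tensorPow_isInvertible hL n₀) σ with hVdef
  set p := (hV.primeIdealOf ⟨x, hxV⟩).asIdeal
  letI : Algebra k Γ(X, V) := (kTo k V).toAlgebra
  haveI : Algebra.FiniteType k Γ(X, V) := finiteType_kTo hV
  obtain ⟨s, t, hinj, hfin⟩ := exists_finite_inj_algHom_of_fg k (Γ(X, V) ⧸ p)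
  have hs : s = d := by
    letI := t.toRingHom.toAlgebra
    have : Module.Finite (MvPolynomial (Fin s) k) (Γ(X, V) ⧸ p) := hfin
    have h1 := CommAlgDim.ringKrullDim_eq_of_integral (MvPolynomial (Fin s) k) (Γ(X, V) ⧸ p) hinj
    rw [← FibDimLib.topologicalKrullDim_closure_eq_affine q hV hxV, hx,
      MvPolynomial.ringKrullDim_of_isNoetherianRing, ringKrullDim_eq_zero_of_field,
      zero_add, Nat.card_eq_fintype_card, Fintype.card_fin] at h1
    exact_mod_cast h1.symm
  subst hs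
  choose tl htl using fun i => Ideal.Quotient.mk_surjective (t (MvPolynomial.X i))
  choose N hN using fun c : Option (Fin s) => exists_extend hL (r := 0) σ (c.elim (1 : Γ(X, V)) tl)
  let N' := Finset.univ.sum N + 1
  have hN' : ∀ c, N c ≤ N' := fun c =>
    (Finset.single_le_sum (fun i _ => Nat.zero_le (N i)) (Finset.mem_univ c)).trans (Nat.le_succ _)
  choose u hu using fun c => hN c N' (hN' c)
  let one0 : Γ(CohB1.tensorPow L 0, V) := (1 : Γ(X, V))
  let G0 := res _ (le_top : V ≤ ⊤) (tPow hL σ N')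
  have hmul : ∀ c : Γ(X, V), mul hL (show Γ(CohB1.tensorPow L 0, V) from c) G0 = c • mul hL one0 G0 := by
    intro c
    have := mul_smul_smul hL c 1 one0 G0
    rw [one_smul, mul_one] at this
    rw [← this]
    exact congrArg (fun z => mul hL z G0) (mul_one c).symm
  have hgen : GenOn (CohB1.tensorPow L (0 + n₀ * N')) (res _ (le_top : V ≤ ⊤) (u none)) := by
    rw [hu none]
    exact mul_genOn hL (one_genOn V) (tPow_genOn hL σ le_rfl N')
  have hures : ∀ i, res _ (le_top : V ≤ ⊤) (u (some i)) = tl i • res _ (le_top : V ≤ ⊤) (u none) := fun i => by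
    rw [hu (some i), hu none]
    exact hmul (tl i)
  have hMpos : 0 < (0 + n₀ * N') := by
    have : 0 < n₀ * N' := Nat.mul_pos hn₀ (Nat.succ_pos _)
    omega
  obtain ⟨N₁, hN₁⟩ := exists_eval_eq_finrank hA hG hP
  have hbound : ∀ j : ℕ, N₁ ≤ j → ((j : ℚ) + 1) ^ s ≤ P.eval (((0 + n₀ * N') * ((s + 1) * j) : ℕ) : ℚ) := by
    intro j hj
    have hjle : N₁ ≤ (0 + n₀ * N') * ((s + 1) * j) :=
      hj.trans ((Nat.le_mul_of_pos_left j (Nat.succ_pos s)).trans (Nat.le_mul_of_pos_left _ hMpos))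
    rw [hN₁ _ hjle]
    haveI : Module.Finite k (Coh.HH X (CohB1.tensorMod
        (CohB1.tensorPow (CohB1.tensorPow L (0 + n₀ * N')) ((s + 1) * j)) G) 0) :=
      CurvLib.finite_HH (isCoh_tensor (tensorPow_isInvertible (tensorPow_isInvertible hL (0 + n₀ * N')) _) hG) 0
    have h := le_finrank_h0 (k := k) (u none) hV hxV hgen t.toRingHom (fun c => t.commutes c) hinj tl
      htl (fun i => u (some i)) hures g hg j ((s + 1) * j) (Nat.mul_le_mul_right j (Nat.le_succ s))
    obtain ⟨e, -⟩ := exists_powIso hL (0 + n₀ * N') ((s + 1) * j)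
    rw [(CurvLib.hIso (k := k) (congrLeft e G) 0).finrank_eq] at h
    exact_mod_cast h
  let a : ℚ := (((0 + n₀ * N') * (s + 1) : ℕ) : ℚ)
  let R := P.comp (Polynomial.C a * Polynomial.X) - Polynomial.X ^ s
  have hdeg : R.natDegree ≤ s := by
    refine (Polynomial.natDegree_sub_le _ _).trans (max_le ?_ (Polynomial.natDegree_X_pow_le s))
    refine (Polynomial.natDegree_comp_le).trans ?_
    exact ((Nat.mul_le_mul (natDegree_le hA hG hP hd) (Polynomial.natDegree_C_mul_le a _)).trans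
      (by simp))
  have hR : ∀ j : ℕ, N₁ ≤ j → 0 ≤ R.eval (j : ℚ) := fun j hj => by
    have h1 := hbound j hj
    have h2 : (j : ℚ) ^ s ≤ ((j : ℚ) + 1) ^ s := pow_le_pow_left₀ (Nat.cast_nonneg _) (by linarith) s
    simp only [R, a, Polynomial.eval_sub, Polynomial.eval_comp, Polynomial.eval_mul, Polynomial.eval_C,
      Polynomial.eval_X, Polynomial.eval_pow, sub_nonneg]
    refine h2.trans (h1.trans_eq (congrArg (Polynomial.eval · P) ?_))
    push_cast
    ring
  have hcoef := coeff_nonneg_of_eventually hdeg hR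
  simp only [R, Polynomial.coeff_sub, Polynomial.coeff_X_pow, if_true,
    Polynomial.comp_C_mul_X_coeff, sub_nonneg] at hcoef
  refine mul_pos (by exact_mod_cast s.factorial_pos) ?_
  by_contra hneg
  push Not at hneg
  have ha : 0 ≤ a ^ s := pow_nonneg (Nat.cast_nonneg _) s
  nlinarith [mul_nonpos_of_nonpos_of_nonneg hneg ha]

end HilbPolyLib

end
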