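import Mathlib.NumberTheory.Bernoulli
import Mathlib.Algebra.MvPolynomial.Degrees
import Mathlib.Algebra.Polynomial.Degree.Lemmas
import Mathlib.LinearAlgebra.Span.Basic

/-!
# Polynomial functions on `ℕ^r` and their differences
-/

universe u

open Finset

namespace HilbPolyLib

variable {r : ℕ}

/-- The monomial function with exponents `m`. -/
def monFun (m : Fin r → ℕ) : (Fin r → ℕ) → ℚ := fun n => ∏ l, (n l : ℚ) ^ m l

/-- Polynomial functions of total degree `< d`. -/
def polyFun (r d : ℕ) : Submodule ℚ ((Fin r → ℕ) → ℚ) :=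
  Submodule.span ℚ (monFun '' {m : Fin r → ℕ | ∑ l, m l < d})

theorem polyFun_mono {d e : ℕ} (h : d ≤ e) : polyFun r d ≤ polyFun r e :=
  Submodule.span_mono (Set.image_mono fun m (hm : _ < d) => lt_of_lt_of_le hm h)

theorem monFun_mem {m : Fin r → ℕ} {d : ℕ} (h : ∑ l, m l < d) : monFun m ∈ polyFun r d :=
  Submodule.subset_span ⟨m, h, rfl⟩

theorem polyFun_zero : polyFun r 0 = ⊥ := by
  refine Submodule.span_eq_bot.mpr ?_
  rintro _ ⟨m, hm, rfl⟩
  exact absurd hm (Nat.not_lt_zero _)

theorem const_mem (c : ℚ) (d : ℕ) : (fun _ => c) ∈ polyFun r (d + 1) := by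
  have h := Submodule.smul_mem _ c (monFun_mem (m := fun _ : Fin r => 0) (d := d + 1) (by simp))
  convert h using 1
  funext n
  simp [monFun]

/-- Forward difference in the variable `i`. -/
def diff (i : Fin r) (f : (Fin r → ℕ) → ℚ) : (Fin r → ℕ) → ℚ :=
  fun n => f (Function.update n i (n i + 1)) - f n

/-- Summation in the variable `i`. -/
def sumVar (i : Fin r) : ((Fin r → ℕ) → ℚ) →ₗ[ℚ] ((Fin r → ℕ) → ℚ) where
  toFun f n := ∑ j ∈ range (n i), f (Function.update n i j)
  map_add' f g := by funext n; simp [Finset.sum_add_distrib]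
  map_smul' c f := by funext n; simp [Finset.mul_sum]

/-- Setting the variable `i` to zero. -/
def subZero (i : Fin r) : ((Fin r → ℕ) → ℚ) →ₗ[ℚ] ((Fin r → ℕ) → ℚ) where
  toFun f n := f (Function.update n i 0)
  map_add' _ _ := rfl
  map_smul' _ _ := rfl

theorem monFun_update (m : Fin r → ℕ) (i : Fin r) (n : Fin r → ℕ) (j : ℕ) :
    monFun m (Function.update n i j) = (j : ℚ) ^ m i * ∏ l ∈ univ.erase i, (n l : ℚ) ^ m l := by
  rw [monFun, ← Finset.mul_prod_erase univ _ (mem_univ i), Function.update_self]
  congr 1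
  exact Finset.prod_congr rfl fun l hl => by rw [Function.update_of_ne (ne_of_mem_erase hl)]

theorem prod_erase_mul_pow (m : Fin r → ℕ) (i : Fin r) (n : Fin r → ℕ) (a : ℕ) :
    (∏ l ∈ univ.erase i, (n l : ℚ) ^ m l) * (n i : ℚ) ^ a = monFun (Function.update m i a) n := by
  rw [monFun, ← Finset.mul_prod_erase univ _ (mem_univ i), Function.update_self, mul_comm]
  congr 1
  exact Finset.prod_congr rfl fun l hl => by rw [Function.update_of_ne (ne_of_mem_erase hl)]

theorem sum_update (m : Fin r → ℕ) (i : Fin r) (a : ℕ) :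
    ∑ l, Function.update m i a l = a + ∑ l ∈ univ.erase i, m l := by
  rw [← Finset.add_sum_erase univ _ (mem_univ i), Function.update_self]
  congr 1
  exact Finset.sum_congr rfl fun l hl => by rw [Function.update_of_ne (ne_of_mem_erase hl)]

theorem sumVar_mem (i : Fin r) {d : ℕ} {f : (Fin r → ℕ) → ℚ} (hf : f ∈ polyFun r d) :
    sumVar i f ∈ polyFun r (d + 1) := by
  refine (Submodule.map_le_iff_le_comap.mp ?_ hf : f ∈ (polyFun r (d + 1)).comap (sumVar i))
  rw [polyFun, Submodule.map_span_le]
  rintro _ ⟨m, hm, rfl⟩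
  have hd : m i + ∑ l ∈ univ.erase i, m l < d := by
    rw [Finset.add_sum_erase univ m (mem_univ i)]; exact hm
  have key : sumVar i (monFun m) = ∑ a ∈ range (m i + 1),
      ((bernoulli a * ((m i + 1).choose a : ℚ)) / (m i + 1 : ℚ)) •
        monFun (Function.update m i (m i + 1 - a)) := by
    funext n
    simp only [sumVar, LinearMap.coe_mk, AddHom.coe_mk, monFun_update, ← Finset.sum_mul,
      sum_range_pow, Finset.sum_apply, Pi.smul_apply, smul_eq_mul, ← prod_erase_mul_pow]
    rw [Finset.sum_mul]
    exact Finset.sum_congr rfl fun a _ => by ring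
  rw [key]
  refine Submodule.sum_mem _ fun a _ => Submodule.smul_mem _ _ (monFun_mem ?_)
  rw [sum_update]
  omega

theorem subZero_mem (i : Fin r) {d : ℕ} {f : (Fin r → ℕ) → ℚ} (hf : f ∈ polyFun r d) :
    subZero i f ∈ polyFun r d := by
  refine (Submodule.map_le_iff_le_comap.mp ?_ hf : f ∈ (polyFun r d).comap (subZero i))
  rw [polyFun, Submodule.map_span_le]
  rintro _ ⟨m, hm, rfl⟩
  have key : subZero i (monFun m) = (0 : ℚ) ^ m i • monFun (Function.update m i 0) := by
    funext n
    simp only [subZero, LinearMap.coe_mk, AddHom.coe_mk, monFun_update, Pi.smul_apply, smul_eq_mul,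
      ← prod_erase_mul_pow, Nat.cast_zero, pow_zero, mul_one]
  rw [key]
  refine Submodule.smul_mem _ _ (monFun_mem ?_)
  rw [sum_update]
  have : m i + ∑ l ∈ univ.erase i, m l < d := by
    rw [Finset.add_sum_erase univ m (mem_univ i)]; exact hm
  omega

theorem eq_subZero_add (i : Fin r) (f : (Fin r → ℕ) → ℚ) :
    f = subZero i f + sumVar i (diff i f) := by
  funext n
  have h : ∑ j ∈ range (n i), (f (Function.update n i (j + 1)) - f (Function.update n i j)) =
      f (Function.update n i (n i)) - f (Function.update n i 0) :=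
    Finset.sum_range_sub (fun j => f (Function.update n i j)) (n i)
  simp only [Pi.add_apply, subZero, sumVar, LinearMap.coe_mk, AddHom.coe_mk, diff,
    Function.update_idem, Function.update_self, h, Function.update_eq_self]
  ring

/-- A function whose differences are polynomial of degree `< d` is polynomial of degree `< d + 1`. -/
theorem mem_of_diff {d : ℕ} (f : (Fin r → ℕ) → ℚ) (h : ∀ i, diff i f ∈ polyFun r d) :
    f ∈ polyFun r (d + 1) := by
  classical
  suffices key : ∀ (s : Finset (Fin r)) (g : (Fin r → ℕ) → ℚ), (∀ i, diff i g ∈ polyFun r d) →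
      (∀ n n' : Fin r → ℕ, (∀ l ∈ s, n l = n' l) → g n = g n') → g ∈ polyFun r (d + 1) from
    key univ f h fun n n' hn => congrArg f (funext fun l => hn l (mem_univ l))
  intro s
  induction s using Finset.induction_on with
  | empty =>
    intro g _ hdep
    convert const_mem (g 0) d using 1
    funext n
    exact hdep n 0 (by simp)
  | insert i s _ ih =>
    intro g hg hdep
    rw [eq_subZero_add i g]
    refine add_mem (ih _ (fun l => ?_) fun n n' hn => hdep _ _ fun l hl => ?_) (sumVar_mem i (hg i))
    · by_cases hli : l = i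
      · subst hli
        convert zero_mem (polyFun r d)
        funext n
        simp [diff, subZero]
      · convert subZero_mem i (hg l) using 1
        funext n
        simp only [diff, subZero, LinearMap.coe_mk, AddHom.coe_mk, Function.update_of_ne hli,
          Function.update_comm hli]
    · by_cases hli : l = i
      · subst hli; simp
      · simp only [Function.update_of_ne hli]
        exact hn l ((Finset.mem_insert.mp hl).resolve_left hli)

/-- Conversion to a polynomial in several variables. -/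
theorem exists_mvPolynomial {d : ℕ} {f : (Fin r → ℕ) → ℚ} (hf : f ∈ polyFun r (d + 1)) :
    ∃ P : MvPolynomial (Fin r) ℚ, P.totalDegree ≤ d ∧
      ∀ n, f n = MvPolynomial.eval (fun l => (n l : ℚ)) P := by
  induction hf using Submodule.span_induction with
  | mem x hx =>
    obtain ⟨m, hm, rfl⟩ := hx
    refine ⟨MvPolynomial.monomial (Finsupp.equivFunOnFinite.symm m) 1, ?_, fun n => ?_⟩
    · rw [MvPolynomial.totalDegree_monomial _ one_ne_zero, Finsupp.sum_fintype _ _ (fun _ => rfl)]
      exact Nat.lt_succ_iff.mp hm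
    · rw [MvPolynomial.eval_monomial, one_mul, Finsupp.prod_fintype _ _ (fun _ => pow_zero _)]
      rfl
  | zero => exact ⟨0, by simp, fun n => by simp⟩
  | add x y _ _ hx hy =>
    obtain ⟨P, hP, hP'⟩ := hx
    obtain ⟨Q, hQ, hQ'⟩ := hy
    exact ⟨P + Q, (MvPolynomial.totalDegree_add _ _).trans (max_le hP hQ),
      fun n => by simp [hP' n, hQ' n]⟩
  | smul c x _ hx =>
    obtain ⟨P, hP, hP'⟩ := hx
    exact ⟨c • P, (MvPolynomial.totalDegree_smul_le _ _).trans hP, fun n => by simp [hP' n]⟩

/-- Conversion to a polynomial in one variable. -/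
theorem exists_polynomial {d : ℕ} {f : (Fin 1 → ℕ) → ℚ} (hf : f ∈ polyFun 1 d) :
    ∃ P : Polynomial ℚ, P.degree < (d : WithBot ℕ) ∧ ∀ n : ℕ, f (fun _ => n) = P.eval (n : ℚ) := by
  induction hf using Submodule.span_induction with
  | mem x hx =>
    obtain ⟨m, hm, rfl⟩ := hx
    refine ⟨Polynomial.X ^ m 0, ?_, fun n => by simp [monFun]⟩
    rw [Polynomial.degree_X_pow]
    simpa using hm
  | zero => exact ⟨0, by simp [Polynomial.degree_zero], fun n => by simp⟩
  | add x y _ _ hx hy =>
    obtain ⟨P, hP, hP'⟩ := hx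
    obtain ⟨Q, hQ, hQ'⟩ := hy
    exact ⟨P + Q, (Polynomial.degree_add_le _ _).trans_lt (max_lt hP hQ),
      fun n => by simp [hP' n, hQ' n]⟩
  | smul c x _ hx =>
    obtain ⟨P, hP, hP'⟩ := hx
    exact ⟨c • P, (Polynomial.degree_smul_le _ _).trans_lt hP, fun n => by simp [hP' n]⟩

end HilbPolyLib
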